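import Groth.Agent.ResProp.EF.K661.TowerA

/-!
# helper661: the graded pieces over a flat algebra are `B ⊗ (Fil j / Fil (j+1))` (G5, node B2)
-/

set_option autoImplicit false

universe u

open TensorProduct Groth.Agent.ResProp.EF.K104 Groth.Agent.ResProp.EF.K649

namespace Groth.Agent.ResProp.EF.K661

variable {k : Type u} [CommRing k] {H : GFun k} {n : ℕ} (P : OpPkg H n)

/-- The graded pieces over `k`. -/
abbrev GQ (j : ℕ) : Type u := P.Fil j ⧸ (P.Fil (j + 1)).comap (P.Fil j).subtype

/-- class of an element of `Fil j`. -/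
abbrev gq (j : ℕ) : P.Fil j →ₗ[k] GQ P j := Submodule.mkQ _

section Flat

variable (B : Type u) [CommRing B] [Algebra k B]

/-- `B ⊗ Fil j → AA B`. -/
noncomputable def jB (j : ℕ) : B ⊗[k] (P.Fil j) →ₗ[B] P.AA B :=
  P.iota B ∘ₗ (P.Fil j).subtype.baseChange B

theorem jB_tmul (j : ℕ) (b : B) (d : P.Fil j) : jB P B j (b ⊗ₜ d) = P.iota B (b ⊗ₜ (d : P.D)) :=
  rfl

theorem range_jB (j : ℕ) : LinearMap.range (jB P B j) = opD P B j := by
  rw [jB, LinearMap.range_comp]; rfl

theorem jB_mem (j : ℕ) (x : B ⊗[k] (P.Fil j)) : jB P B j x ∈ opD P B j := by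
  rw [← range_jB]; exact LinearMap.mem_range_self _ _

theorem exists_jB {j : ℕ} {x : P.AA B} (hx : x ∈ opD P B j) : ∃ y, jB P B j y = x := by
  rw [← range_jB] at hx; exact hx

variable [Module.Flat k B]

theorem jB_injective (j : ℕ) : Function.Injective (jB P B j) :=
  (P.iota_inj B).comp (Module.Flat.lTensor_preserves_injective_linearMap (M := B)
    (P.Fil j).subtype (Submodule.injective_subtype _))

/-- `B ⊗ Fil j → gr j`. -/
noncomputable def jG (j : ℕ) : B ⊗[k] (P.Fil j) →ₗ[B] (pk P B).gr j :=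
  (pk P B).cl j ∘ₗ (jB P B j).codRestrict (opD P B j) (jB_mem P B j)

theorem jG_apply (j : ℕ) (x : B ⊗[k] (P.Fil j)) :
    jG P B j x = (pk P B).cl j ⟨jB P B j x, jB_mem P B j x⟩ := rfl

theorem jG_surjective (j : ℕ) : Function.Surjective (jG P B j) := by
  intro y
  obtain ⟨⟨x, hx⟩, rfl⟩ := (pk P B).cl_surjective j y
  obtain ⟨z, rfl⟩ := exists_jB P B hx
  exact ⟨z, rfl⟩

omit [Module.Flat k B] in
theorem jB_lTensor_mem (j : ℕ) (w : B ⊗[k] ((P.Fil (j + 1)).comap (P.Fil j).subtype)) :
    jB P B j (((P.Fil (j + 1)).comap (P.Fil j).subtype).subtype.lTensor B w) ∈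
      opD P B (j + 1) := by
  induction w using TensorProduct.induction_on with
  | zero => rw [map_zero, map_zero]; exact Submodule.zero_mem _
  | add a b ha hb => rw [map_add, map_add]; exact Submodule.add_mem _ ha hb
  | tmul b d =>
    rw [LinearMap.lTensor_tmul, jB_tmul]
    exact ⟨_, Submodule.tmul_mem_baseChange_of_mem b d.2, rfl⟩

theorem jG_eq_zero (j : ℕ) (x : B ⊗[k] (P.Fil j)) :
    jG P B j x = 0 ↔ (gq P j).baseChange B x = 0 := by
  have hle : P.Fil (j + 1) ≤ P.Fil j := P.fil_anti j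
  constructor
  · intro h
    rw [jG_apply, Fl.cl_eq_zero] at h
    obtain ⟨w, hw⟩ := exists_jB P B h
    have hw' : jB P B (j + 1) w = jB P B j x := hw
    have h1 : x = (Submodule.inclusion hle).baseChange B w := by
      apply jB_injective P B j
      rw [← hw']
      change P.iota B _ = P.iota B _
      congr 1
      change _ = (P.Fil j).subtype.baseChange B ((Submodule.inclusion hle).baseChange B w)
      rw [← LinearMap.comp_apply, ← LinearMap.baseChange_comp, Submodule.subtype_comp_inclusion]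
    rw [h1, ← LinearMap.comp_apply, ← LinearMap.baseChange_comp]
    have h2 : gq P j ∘ₗ Submodule.inclusion hle = 0 := by
      ext y
      change Submodule.Quotient.mk _ = 0
      rw [Submodule.Quotient.mk_eq_zero]
      exact y.2
    rw [h2, LinearMap.baseChange_zero, LinearMap.zero_apply]
  · intro h
    have hex := lTensor_exact B (f := ((P.Fil (j + 1)).comap (P.Fil j).subtype).subtype)
      (g := gq P j) (LinearMap.exact_subtype_mkQ _) (Submodule.mkQ_surjective _)
    obtain ⟨w, rfl⟩ := (hex x).1 h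
    rw [jG_apply, Fl.cl_eq_zero]
    exact jB_lTensor_mem P B j w

omit [Module.Flat k B] in
theorem gq_baseChange_surjective (j : ℕ) : Function.Surjective ((gq P j).baseChange B) :=
  LinearMap.lTensor_surjective B (Submodule.mkQ_surjective _)

/-- `gr j` over the flat algebra `B` is `B ⊗ gr j`. -/
noncomputable def grE (j : ℕ) : (B ⊗[k] GQ P j) ≃ₗ[B] (pk P B).gr j :=
  ((LinearMap.quotKerEquivOfSurjective _ (gq_baseChange_surjective P B j)).symm.trans
    (Submodule.quotEquivOfEq _ _ (by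
      ext x
      rw [LinearMap.mem_ker, LinearMap.mem_ker, jG_eq_zero]))).trans
    (LinearMap.quotKerEquivOfSurjective (jG P B j) (jG_surjective P B j))

theorem grE_baseChange (j : ℕ) (x : B ⊗[k] (P.Fil j)) :
    grE P B j ((gq P j).baseChange B x) = jG P B j x := by
  unfold grE
  rw [LinearEquiv.trans_apply, LinearEquiv.trans_apply]
  have h : (LinearMap.quotKerEquivOfSurjective _ (gq_baseChange_surjective P B j)).symm
      ((gq P j).baseChange B x) = Submodule.Quotient.mk x := by
    rw [LinearEquiv.symm_apply_eq]; rfl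
  rw [h]
  rfl

theorem grE_tmul (j : ℕ) (b : B) (d : P.Fil j) :
    grE P B j (b ⊗ₜ gq P j d) =
      (pk P B).cl j ⟨P.iota B (b ⊗ₜ (d : P.D)), jB_mem P B j (b ⊗ₜ d)⟩ :=
  grE_baseChange P B j (b ⊗ₜ d)

theorem grE_nat {B : Type u} [CommRing B] [Algebra k B] [Module.Flat k B] {C : Type u}
    [CommRing C] [Algebra k C] [Module.Flat k C] (f : B →ₐ[k] C) (j : ℕ) (x : B ⊗[k] GQ P j) :
    (pk_isMap P f).grMap j (grE P B j x) = grE P C j (f.toLinearMap.rTensor (GQ P j) x) := by
  induction x using TensorProduct.induction_on with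
  | zero => simp only [map_zero]
  | add x y hx hy => rw [map_add, map_add, hx, hy, map_add, map_add]
  | tmul b d =>
    obtain ⟨d, rfl⟩ := Submodule.mkQ_surjective _ d
    rw [LinearMap.rTensor_tmul, grE_tmul, grE_tmul, Pk.IsMap.grMap_cl]
    congr 1
    ext1
    exact P.iota_map f b d

/-! ## the action of a point on `B ⊗ gr j` -/

/-- conjugation by the lifts of `h` on `B ⊗ gr j`. -/
noncomputable def cj (j : ℕ) (hj : 1 ≤ j) (h : H.pt B) : B ⊗[k] GQ P j →ₗ[B] B ⊗[k] GQ P j :=
  (grE P B j).symm.toLinearMap ∘ₗ (pk P B).act j hj h ∘ₗ (grE P B j).toLinearMap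

theorem grE_cj (j : ℕ) (hj : 1 ≤ j) (h : H.pt B) (x : B ⊗[k] GQ P j) :
    grE P B j (cj P B j hj h x) = (pk P B).act j hj h (grE P B j x) := by
  change grE P B j ((grE P B j).symm _) = _
  rw [LinearEquiv.apply_symm_apply]; rfl

theorem cj_one (j : ℕ) (hj : 1 ≤ j) (x : B ⊗[k] GQ P j) : cj P B j hj 1 x = x := by
  apply (grE P B j).injective
  rw [grE_cj, Pk.act_one]

theorem cj_mul (j : ℕ) (hj : 1 ≤ j) (g h : H.pt B) (x : B ⊗[k] GQ P j) :
    cj P B j hj (g * h) x = cj P B j hj g (cj P B j hj h x) := by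
  apply (grE P B j).injective
  rw [grE_cj, grE_cj, grE_cj, Pk.act_mul]

theorem cj_nat {B : Type u} [CommRing B] [Algebra k B] [Module.Flat k B] {C : Type u}
    [CommRing C] [Algebra k C] [Module.Flat k C] (f : B →ₐ[k] C) (j : ℕ) (hj : 1 ≤ j)
    (h : H.pt B) (x : B ⊗[k] GQ P j) :
    f.toLinearMap.rTensor (GQ P j) (cj P B j hj h x) =
      cj P C j hj (H.map f h) (f.toLinearMap.rTensor (GQ P j) x) := by
  apply (grE P C j).injective
  rw [← grE_nat, grE_cj, grE_cj, ← grE_nat, (pk_isMap P f).act_grMap]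

end Flat

end Groth.Agent.ResProp.EF.K661
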