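import Groth.Agent.ResProp.EF.K661.MatTwist
import Groth.Agent.ResProp.EF.K649.OpPkg

/-!
# helper661: the package of `OpPkg` over a flat algebra, and the group functors `N ρ` (G5, node B2)
-/

set_option autoImplicit false

universe u

open TensorProduct Groth.Agent.ResProp.EF.K104 Groth.Agent.ResProp.EF.K649

namespace Groth.Agent.ResProp.EF.K661

variable {k : Type u} [CommRing k] {H : GFun k} {n : ℕ} (P : OpPkg H n)

/-- `DD^(j)(B)` inside the ring `AA B`. -/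
def opD (B : Type u) [CommRing B] [Algebra k B] (j : ℕ) : Submodule B (P.AA B) :=
  Submodule.map (P.iota B) ((P.Fil j).baseChange B)

theorem fil_antitone {i j : ℕ} (h : i ≤ j) : P.Fil j ≤ P.Fil i :=
  antitone_nat_of_succ_le P.fil_anti h

theorem mem_opD_one {B : Type u} [CommRing B] [Algebra k B] {x : P.AA B} :
    x ∈ opD P B 1 ↔ ∃ y : B ⊗[k] P.D, P.iota B y = x := by
  rw [opD, P.fil_one, Submodule.baseChange_top, Submodule.map_top]
  exact LinearMap.mem_range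

theorem lift_conj_mem {B : Type u} [CommRing B] [Algebra k B] [Module.Flat k B] {h : H.pt B}
    {ψ : (P.AA B)ˣ} (hψ : ψ ∈ P.Lift B h) {j : ℕ} (hj : 1 ≤ j) {x : P.AA B}
    (hx : x ∈ opD P B j) : (ψ : P.AA B) * x * ((ψ⁻¹ : (P.AA B)ˣ) : P.AA B) ∈ opD P B j := by
  obtain ⟨y, hy, rfl⟩ := hx
  obtain ⟨z, hz, hz2⟩ := P.lift_conj B h ψ hψ j hj y hy
  exact ⟨z, hz, hz2⟩

/-- the filtration of `AA B`, `B` flat. -/
def opFl (B : Type u) [CommRing B] [Algebra k B] [Module.Flat k B] : Fl B (P.AA B) n where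
  D := opD P B
  mul_mem := by
    rintro i j hi hj _ _ ⟨x, hx, rfl⟩ ⟨y, hy, rfl⟩
    obtain ⟨z, hz, hz2⟩ := P.mul_mem B i j hi hj x y hx hy
    exact ⟨z, hz, hz2⟩
  anti h := Submodule.map_mono (Submodule.baseChange_mono B (fil_antitone P h))
  top := by rw [opD, P.fil_last, Submodule.baseChange_bot, Submodule.map_bot]

/-- The package over a flat algebra. -/
def pk (B : Type u) [CommRing B] [Algebra k B] [Module.Flat k B] :
    Pk B (P.AA B) (H.pt B) n where
  toFl := opFl P B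
  N0 :=
    { carrier := {p | ∃ ψ ∈ P.Lift B p.1, ψ⁻¹ * p.2 ∈ (opFl P B).onePlus 1 le_rfl}
      one_mem' := by
        obtain ⟨ψ, hψ⟩ := P.lift_ne B 1
        obtain ⟨x, hx⟩ := P.lift_one B ψ hψ
        refine ⟨ψ, hψ, ?_⟩
        change ψ⁻¹ * 1 ∈ _
        rw [mul_one]
        refine Subgroup.inv_mem _ ?_
        rw [Fl.mem_onePlus, hx]
        exact (mem_opD_one P).2 ⟨x, by simp⟩
      mul_mem' := by
        rintro ⟨g, X⟩ ⟨h, Y⟩ ⟨ψ, hψ, hX⟩ ⟨φ, hφ, hY⟩
        refine ⟨ψ * φ, P.lift_mul B g h ψ hψ φ hφ, ?_⟩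
        change (ψ * φ)⁻¹ * (X * Y) ∈ _
        have h3 : (ψ * φ)⁻¹ * (X * Y) = (φ⁻¹ * (ψ⁻¹ * X) * φ⁻¹⁻¹) * (φ⁻¹ * Y) := by group
        rw [h3]
        refine Subgroup.mul_mem _ ?_ hY
        rw [Fl.mem_onePlus] at hX ⊢
        have h4 := lift_conj_mem P (P.lift_inv B h φ hφ) le_rfl hX
        have h5 : ((φ⁻¹ * (ψ⁻¹ * X) * φ⁻¹⁻¹ : (P.AA B)ˣ) : P.AA B) - 1 =
            ((φ⁻¹ : (P.AA B)ˣ) : P.AA B) * (((ψ⁻¹ * X : (P.AA B)ˣ) : P.AA B) - 1) *
              ((φ⁻¹⁻¹ : (P.AA B)ˣ) : P.AA B) := by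
          rw [mul_sub, sub_mul, mul_one, ← Units.val_mul, ← Units.val_mul, ← Units.val_mul,
            mul_inv_cancel, Units.val_one]
        rw [h5]
        exact h4
      inv_mem' := by
        rintro ⟨g, X⟩ ⟨ψ, hψ, hX⟩
        refine ⟨ψ⁻¹, P.lift_inv B g ψ hψ, ?_⟩
        change ψ⁻¹⁻¹ * X⁻¹ ∈ _
        have h3 : ψ⁻¹⁻¹ * X⁻¹ = ψ * (ψ⁻¹ * X)⁻¹ * ψ⁻¹ := by group
        rw [h3]
        have hX' := Subgroup.inv_mem _ hX
        rw [Fl.mem_onePlus] at hX' ⊢
        have h4 := lift_conj_mem P hψ le_rfl hX'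
        have h5 : ((ψ * (ψ⁻¹ * X)⁻¹ * ψ⁻¹ : (P.AA B)ˣ) : P.AA B) - 1 =
            (ψ : P.AA B) * ((((ψ⁻¹ * X)⁻¹ : (P.AA B)ˣ) : P.AA B) - 1) *
              ((ψ⁻¹ : (P.AA B)ˣ) : P.AA B) := by
          rw [mul_sub, sub_mul, mul_one, ← Units.val_mul, ← Units.val_mul, ← Units.val_mul,
            mul_inv_cancel, Units.val_one]
        rw [h5]
        exact h4 }
  surj h := by
    obtain ⟨ψ, hψ⟩ := P.lift_ne B h
    exact ⟨ψ, ψ, hψ, by simp⟩
  ker Ψ := by
    constructor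
    · rintro ⟨ψ, hψ, hX⟩
      obtain ⟨x, hx⟩ := P.lift_one B ψ hψ
      have h2 : ψ ∈ (opFl P B).onePlus 1 le_rfl := by
        rw [Fl.mem_onePlus, hx]
        exact (mem_opD_one P).2 ⟨x, by simp⟩
      have h3 := Subgroup.mul_mem _ h2 hX
      rw [mul_inv_cancel_left] at h3
      exact h3
    · intro hΨ
      obtain ⟨ψ, hψ⟩ := P.lift_ne B 1
      obtain ⟨x, hx⟩ := P.lift_one B ψ hψ
      refine ⟨ψ, hψ, ?_⟩
      have h2 : ψ ∈ (opFl P B).onePlus 1 le_rfl := by
        rw [Fl.mem_onePlus, hx]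
        exact (mem_opD_one P).2 ⟨x, by simp⟩
      exact Subgroup.mul_mem _ (Subgroup.inv_mem _ h2) hΨ
  conj := by
    rintro h Ψ ⟨ψ, hψ, hX⟩ j hj X hXj
    have h1 := (opFl P B).conj_mem hX hj hXj
    have h2 := lift_conj_mem P hψ hj h1
    have e : (Ψ : P.AA B) * X * ((Ψ⁻¹ : (P.AA B)ˣ) : P.AA B) =
        (ψ : P.AA B) * (((ψ⁻¹ * Ψ : (P.AA B)ˣ) : P.AA B) * X *
            (((ψ⁻¹ * Ψ)⁻¹ : (P.AA B)ˣ) : P.AA B)) * ((ψ⁻¹ : (P.AA B)ˣ) : P.AA B) := by
      have e1 : (ψ : P.AA B) * ((ψ⁻¹ * Ψ : (P.AA B)ˣ) : P.AA B) = Ψ := by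
        rw [← Units.val_mul]; simp
      have e2 : (((ψ⁻¹ * Ψ)⁻¹ : (P.AA B)ˣ) : P.AA B) * ((ψ⁻¹ : (P.AA B)ˣ) : P.AA B) =
          ((Ψ⁻¹ : (P.AA B)ˣ) : P.AA B) := by
        rw [← Units.val_mul]; simp
      calc _ = ((ψ : P.AA B) * ((ψ⁻¹ * Ψ : (P.AA B)ˣ) : P.AA B)) * X *
          ((((ψ⁻¹ * Ψ)⁻¹ : (P.AA B)ˣ) : P.AA B) * ((ψ⁻¹ : (P.AA B)ˣ) : P.AA B)) := by
            rw [e1, e2]
        _ = _ := by noncomm_ring
    rw [e]
    exact h2

theorem opD_map {B C : Type u} [CommRing B] [Algebra k B] [CommRing C] [Algebra k C]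
    (f : B →ₐ[k] C) {j : ℕ} {x : P.AA B} (hx : x ∈ opD P B j) : P.map f x ∈ opD P C j := by
  obtain ⟨y, hy, rfl⟩ := hx
  rw [SetLike.mem_coe, Submodule.baseChange_eq_span] at hy
  induction hy using Submodule.span_induction with
  | mem y hy =>
    obtain ⟨d, hd, rfl⟩ := hy
    rw [TensorProduct.mk_apply, P.iota_map]
    exact ⟨_, Submodule.tmul_mem_baseChange_of_mem _ hd, rfl⟩
  | zero => rw [map_zero, map_zero]; exact Submodule.zero_mem _
  | add y z _ _ h1 h2 => rw [map_add, map_add]; exact Submodule.add_mem _ h1 h2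
  | smul b y _ h1 =>
    rw [map_smul, Algebra.smul_def, map_mul, P.map_algebraMap, ← Algebra.smul_def]
    exact Submodule.smul_mem _ _ h1

/-- Base change between flat algebras. -/
theorem pk_isMap {B C : Type u} [CommRing B] [Algebra k B] [Module.Flat k B] [CommRing C]
    [Algebra k C] [Module.Flat k C] (f : B →ₐ[k] C) :
    (pk P B).IsMap (pk P C) f.toRingHom (P.map f) (H.map f) where
  alg b := P.map_algebraMap f b
  D hx := opD_map P f hx
  N0 := by
    rintro h Ψ ⟨ψ, hψ, hX⟩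
    refine ⟨Units.map (P.map f : P.AA B →* P.AA C) ψ, P.lift_map f h ψ hψ, ?_⟩
    change (Units.map (P.map f : P.AA B →* P.AA C) ψ)⁻¹ *
      Units.map (P.map f : P.AA B →* P.AA C) Ψ ∈ _
    rw [← map_inv, ← map_mul]
    rw [Fl.mem_onePlus] at hX ⊢
    have h1 := opD_map P f hX
    rw [map_sub, map_one] at h1
    exact h1

/-! ## Matrix representations and the group functors -/

/-- A natural matrix representation of `H`. -/
structure MR {k : Type u} [CommRing k] (H : GFun k) (I : Type) [Fintype I] [DecidableEq I] where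
  ρ : ∀ (B : Type u) [CommRing B] [Algebra k B], H.pt B →* (Matrix I I B)ˣ
  nat : ∀ {B C : Type u} [CommRing B] [Algebra k B] [CommRing C] [Algebra k C]
    (f : B →ₐ[k] C) (h : H.pt B),
    ρ C (H.map f h) = Units.map ((f.toRingHom).mapMatrix (m := I)).toMonoidHom (ρ B h)

/-- `Mat(AA B) → Mat(AA C)` on units. -/
def mU {B C : Type u} [CommRing B] [Algebra k B] [CommRing C] [Algebra k C] (f : B →ₐ[k] C)
    (I : Type) [Fintype I] [DecidableEq I] :
    (Matrix I I (P.AA B))ˣ →* (Matrix I I (P.AA C))ˣ :=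
  Units.map ((P.map f).mapMatrix (m := I)).toMonoidHom

section MU

variable {I : Type} [Fintype I] [DecidableEq I]

theorem mU_apply {B C : Type u} [CommRing B] [Algebra k B] [CommRing C] [Algebra k C]
    (f : B →ₐ[k] C) (X : (Matrix I I (P.AA B))ˣ) (a b : I) :
    ((mU P f I X : (Matrix I I (P.AA C))ˣ) : Matrix I I (P.AA C)) a b =
      P.map f ((X : Matrix I I (P.AA B)) a b) := rfl

theorem mU_id (B : Type u) [CommRing B] [Algebra k B] (X : (Matrix I I (P.AA B))ˣ) :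
    mU P (AlgHom.id k B) I X = X := by
  ext a b
  rw [mU_apply, P.map_id]

theorem mU_comp {B C D : Type u} [CommRing B] [Algebra k B] [CommRing C] [Algebra k C]
    [CommRing D] [Algebra k D] (f : B →ₐ[k] C) (g : C →ₐ[k] D) (X : (Matrix I I (P.AA B))ˣ) :
    mU P (g.comp f) I X = mU P g I (mU P f I X) := by
  ext a b
  rw [mU_apply, mU_apply, mU_apply, P.map_comp]

variable (R : MR H I)

theorem twist_isMap {B C : Type u} [CommRing B] [Algebra k B] [Module.Flat k B] [CommRing C]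
    [Algebra k C] [Module.Flat k C] (f : B →ₐ[k] C) :
    ((pk P B).twist (R.ρ B)).IsMap ((pk P C).twist (R.ρ C)) f.toRingHom
      ((P.map f).mapMatrix (m := I)) (H.map f) :=
  (pk_isMap P f).twist (R.nat f)

/-- The points of `N ρ`: pairs which are lifts over every flat algebra. -/
def NSub (B : Type u) [CommRing B] [Algebra k B] :
    Subgroup (H.pt B × (Matrix I I (P.AA B))ˣ) where
  carrier := {x | ∀ (C : Type u) [CommRing C] [Algebra k C] [Module.Flat k C] (f : B →ₐ[k] C),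
    (H.map f x.1, mU P f I x.2) ∈ ((pk P C).twist (R.ρ C)).N0}
  one_mem' C _ _ _ f := by
    change (H.map f 1, mU P f I 1) ∈ _
    rw [map_one, map_one]
    exact Subgroup.one_mem _
  mul_mem' {x y} hx hy C _ _ _ f := by
    change (H.map f (x.1 * y.1), mU P f I (x.2 * y.2)) ∈ _
    rw [map_mul, map_mul]
    exact Subgroup.mul_mem _ (hx C f) (hy C f)
  inv_mem' {x} hx C _ _ _ f := by
    change (H.map f x.1⁻¹, mU P f I x.2⁻¹) ∈ _
    rw [map_inv, map_inv]
    exact Subgroup.inv_mem _ (hx C f)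

theorem mem_NSub {B : Type u} [CommRing B] [Algebra k B] {x : H.pt B × (Matrix I I (P.AA B))ˣ} :
    x ∈ NSub P R B ↔ ∀ (C : Type u) [CommRing C] [Algebra k C] [Module.Flat k C]
      (f : B →ₐ[k] C), (H.map f x.1, mU P f I x.2) ∈ ((pk P C).twist (R.ρ C)).N0 := Iff.rfl

theorem mem_NSub_flat {B : Type u} [CommRing B] [Algebra k B] [Module.Flat k B]
    {x : H.pt B × (Matrix I I (P.AA B))ˣ} :
    x ∈ NSub P R B ↔ x ∈ ((pk P B).twist (R.ρ B)).N0 := by
  constructor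
  · intro h
    have := h B (AlgHom.id k B)
    rw [H.map_id, mU_id] at this
    exact this
  · intro h C _ _ _ f
    exact (twist_isMap P R f).N0 h

theorem NSub_map {B C : Type u} [CommRing B] [Algebra k B] [CommRing C] [Algebra k C]
    (f : B →ₐ[k] C) {x : H.pt B × (Matrix I I (P.AA B))ˣ} (hx : x ∈ NSub P R B) :
    (H.map f x.1, mU P f I x.2) ∈ NSub P R C := by
  intro D _ _ _ g
  change (H.map g (H.map f x.1), mU P g I (mU P f I x.2)) ∈ _
  rw [← H.map_comp, ← mU_comp]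
  exact hx D (g.comp f)

/-- The group functor `N ρ`. -/
def NF : GFun k where
  pt B _ _ := NSub P R B
  map f :=
    { toFun := fun x => ⟨(H.map f x.1.1, mU P f I x.1.2), NSub_map P R f x.2⟩
      map_one' := by
        ext1
        change (H.map f 1, mU P f I 1) = 1
        rw [map_one, map_one]; rfl
      map_mul' := fun x y => by
        ext1
        change (H.map f (x.1.1 * y.1.1), mU P f I (x.1.2 * y.1.2)) = _
        rw [map_mul, map_mul]; rfl }
  map_id B _ _ x := by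
    ext1
    change (H.map _ x.1.1, mU P _ I x.1.2) = x.1
    rw [H.map_id, mU_id]
  map_comp f g x := by
    ext1
    change (H.map _ x.1.1, mU P _ I x.1.2) = (H.map g (H.map f x.1.1), mU P g I (mU P f I x.1.2))
    rw [H.map_comp, mU_comp]

/-- The projection `N ρ → H`. -/
def NFπ : GHom (NF P R) H where
  app B _ _ := (MonoidHom.fst _ _).comp (NSub P R B).subtype
  nat _ _ := rfl

theorem NFπ_surj (B : Type u) [CommRing B] [Algebra k B] [Module.Flat k B] :
    Function.Surjective ((NFπ P R).app B) := by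
  intro h
  obtain ⟨Ψ, hΨ⟩ := ((pk P B).twist (R.ρ B)).surj h
  exact ⟨⟨(h, Ψ), (mem_NSub_flat P R).2 hΨ⟩, rfl⟩

/-- The filtration of the kernel. -/
def NFil (j : ℕ) (B : Type u) [CommRing B] [Algebra k B] : Subgroup ((NF P R).pt B) where
  carrier := {x | x.1.1 = 1 ∧ ∀ (hj : 1 ≤ j) (C : Type u) [CommRing C] [Algebra k C]
    [Module.Flat k C] (f : B →ₐ[k] C), mU P f I x.1.2 ∈ ((opFl P C).mat I).onePlus j hj}
  one_mem' := by
    refine ⟨rfl, fun hj C _ _ _ f => ?_⟩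
    change mU P f I 1 ∈ _
    rw [map_one]
    exact Subgroup.one_mem _
  mul_mem' {x y} hx hy := by
    refine ⟨?_, fun hj C _ _ _ f => ?_⟩
    · change x.1.1 * y.1.1 = 1
      rw [hx.1, hy.1, one_mul]
    · change mU P f I (x.1.2 * y.1.2) ∈ _
      rw [map_mul]
      exact Subgroup.mul_mem _ (hx.2 hj C f) (hy.2 hj C f)
  inv_mem' {x} hx := by
    refine ⟨?_, fun hj C _ _ _ f => ?_⟩
    · change x.1.1⁻¹ = 1
      rw [hx.1, inv_one]
    · change mU P f I x.1.2⁻¹ ∈ _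
      rw [map_inv]
      exact Subgroup.inv_mem _ (hx.2 hj C f)

theorem mem_NFil {j : ℕ} {B : Type u} [CommRing B] [Algebra k B] {x : (NF P R).pt B} :
    x ∈ NFil P R j B ↔ x.1.1 = 1 ∧ ∀ (hj : 1 ≤ j) (C : Type u) [CommRing C] [Algebra k C]
      [Module.Flat k C] (f : B →ₐ[k] C), mU P f I x.1.2 ∈ ((opFl P C).mat I).onePlus j hj :=
  Iff.rfl

theorem mem_NFil_flat {j : ℕ} (hj : 1 ≤ j) {B : Type u} [CommRing B] [Algebra k B]
    [Module.Flat k B] {x : (NF P R).pt B} :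
    x ∈ NFil P R j B ↔ x.1.1 = 1 ∧ x.1.2 ∈ ((opFl P B).mat I).onePlus j hj := by
  constructor
  · intro h
    refine ⟨h.1, ?_⟩
    have := h.2 hj B (AlgHom.id k B)
    rw [mU_id] at this
    exact this
  · intro h
    exact ⟨h.1, fun hj C _ _ _ f => (twist_isMap P R f).onePlus h.2⟩

theorem NFil_map (j : ℕ) {B C : Type u} [CommRing B] [Algebra k B] [CommRing C] [Algebra k C]
    (f : B →ₐ[k] C) (x : (NF P R).pt B) (hx : x ∈ NFil P R j B) :
    (NF P R).map f x ∈ NFil P R j C := by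
  refine ⟨?_, fun hj D _ _ _ g => ?_⟩
  · change H.map f x.1.1 = 1
    rw [hx.1, map_one]
  · change mU P g I (mU P f I x.1.2) ∈ _
    rw [← mU_comp]
    exact hx.2 hj D (g.comp f)

theorem NFil_one (B : Type u) [CommRing B] [Algebra k B] [Module.Flat k B]
    (x : (NF P R).pt B) (hx : (NFπ P R).app B x = 1) : x ∈ NFil P R 1 B := by
  have hx1 : x.1.1 = 1 := hx
  refine (mem_NFil_flat P R le_rfl).2 ⟨hx1, ?_⟩
  have h1 := (mem_NSub_flat P R).1 x.2
  have h2 : ((1 : H.pt B), x.1.2) ∈ ((pk P B).twist (R.ρ B)).N0 := by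
    rw [← hx1]; exact h1
  exact (((pk P B).twist (R.ρ B)).ker _).1 h2

theorem NFil_last (B : Type u) [CommRing B] [Algebra k B] [Module.Flat k B]
    (x : (NF P R).pt B) (hx : x ∈ NFil P R (n + 1) B) : x = 1 := by
  obtain ⟨h1, h2⟩ := (mem_NFil_flat P R (Nat.le_add_left 1 n)).1 hx
  rw [Fl.mem_onePlus, Fl.top, Submodule.mem_bot, sub_eq_zero] at h2
  apply Subtype.ext
  exact Prod.ext h1 (Units.ext h2)

theorem NFil_π (j : ℕ) (B : Type u) [CommRing B] [Algebra k B] (x : (NF P R).pt B)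
    (hx : x ∈ NFil P R j B) : (NFπ P R).app B x = 1 := hx.1

theorem NFil_conj (j : ℕ) (B : Type u) [CommRing B] [Algebra k B] (m x : (NF P R).pt B)
    (hx : x ∈ NFil P R j B) : m * x * m⁻¹ ∈ NFil P R j B := by
  refine ⟨?_, fun hj C _ _ _ f => ?_⟩
  · change m.1.1 * x.1.1 * m.1.1⁻¹ = 1
    rw [hx.1, mul_one, mul_inv_cancel]
  · change mU P f I (m.1.2 * x.1.2 * m.1.2⁻¹) ∈ _
    rw [map_mul, map_mul, map_inv]
    exact ((pk P C).twist (R.ρ C)).conj_onePlus (m.2 C f) hj (hx.2 hj C f)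

end MU

/-! ## Products of representations -/

section Prod

variable {I : Type} [Fintype I] [DecidableEq I] {J : Type} [Fintype J] [DecidableEq J]

/-- The Kronecker product of representations. -/
def MR.mul (R : MR H I) (S : MR H J) : MR H (I × J) where
  ρ B _ _ := krRep (R.ρ B) (S.ρ B)
  nat f h := by
    ext i j
    rw [krRep_apply, R.nat, S.nat]
    change f _ * f _ = f (((krRep (R.ρ _) (S.ρ _) h : (Matrix (I × J) (I × J) _)ˣ) :
      Matrix (I × J) (I × J) _) i j)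
    rw [krRep_apply, map_mul]

variable (R : MR H I) (S : MR H J)

theorem mU_krU {B C : Type u} [CommRing B] [Algebra k B] [CommRing C] [Algebra k C]
    (f : B →ₐ[k] C) (X : (Matrix I I (P.AA B))ˣ) (h : H.pt B) :
    mU P f (I × J) (krU (P.AA B) (X, S.ρ B h)) =
      krU (P.AA C) (mU P f I X, S.ρ C (H.map f h)) := by
  ext i j
  rw [mU_apply, krU_val, krU_val, kr_apply, kr_apply, S.nat, mU_apply]
  change P.map f (_ • _) = f _ • P.map f _
  rw [Algebra.smul_def, map_mul, P.map_algebraMap, ← Algebra.smul_def]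

/-- `τ : N ρ → N (ρ ⊗ σ)`. -/
def NFτ : GHom (NF P R) (NF P (R.mul S)) where
  app B _ _ :=
    { toFun := fun x => ⟨(x.1.1, krU (P.AA B) (x.1.2, S.ρ B x.1.1)), by
        intro C _ _ _ f
        change (H.map f x.1.1, mU P f (I × J) (krU (P.AA B) (x.1.2, S.ρ B x.1.1))) ∈ _
        rw [mU_krU]
        exact (pk P C).τ_mem (R.ρ C) (S.ρ C) (x.2 C f)⟩
      map_one' := by
        apply Subtype.ext
        change ((1 : H.pt B), krU (P.AA B) ((1 : (Matrix I I (P.AA B))ˣ), S.ρ B 1)) = 1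
        rw [map_one]
        exact Prod.ext rfl (map_one (krU (P.AA B)))
      map_mul' := fun x y => by
        apply Subtype.ext
        change (x.1.1 * y.1.1, krU (P.AA B) (x.1.2 * y.1.2, S.ρ B (x.1.1 * y.1.1))) = _
        rw [map_mul]
        exact Prod.ext rfl
          (map_mul (krU (P.AA B)) (x.1.2, S.ρ B x.1.1) (y.1.2, S.ρ B y.1.1)) }
  nat f x := by
    apply Subtype.ext
    change (H.map f x.1.1, krU (P.AA _) (mU P f I x.1.2, S.ρ _ (H.map f x.1.1))) =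
      (H.map f x.1.1, mU P f (I × J) (krU (P.AA _) (x.1.2, S.ρ _ x.1.1)))
    rw [mU_krU]

theorem NFτ_π (B : Type u) [CommRing B] [Algebra k B] (x : (NF P R).pt B) :
    (NFπ P (R.mul S)).app B ((NFτ P R S).app B x) = (NFπ P R).app B x := rfl

theorem NFτ_Fil (j : ℕ) (B : Type u) [CommRing B] [Algebra k B] (x : (NF P R).pt B)
    (hx : x ∈ NFil P R j B) : (NFτ P R S).app B x ∈ NFil P (R.mul S) j B := by
  refine ⟨hx.1, fun hj C _ _ _ f => ?_⟩
  change mU P f (I × J) (krU (P.AA B) (x.1.2, S.ρ B x.1.1)) ∈ _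
  rw [mU_krU, hx.1, map_one, map_one]
  exact (pk P C).krU_one_mem (hx.2 hj C f)

end Prod

end Groth.Agent.ResProp.EF.K661
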