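import Groth.Agent.ResProp.EF.K303.ConsDef
import Groth.Agent.ResProp.EF.K363.LevN

/-!
# helper661: consequences of `Glued` (AD4, node T3)

* `Glued.isHom_d`, `Glued.isHom_pr`: the differential and the projections commute with the descent datum;
* `Glued.σ_F`, `Glued.symm_F`: the descent datum respects the filtration;
* `toD1`, `Glued.sem`: it is semilinear on the graded pieces.
-/

set_option autoImplicit false
set_option linter.dupNamespace false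

open CategoryTheory Opposite TensorProduct

noncomputable section

namespace Groth.Agent.ResProp.EF.K661

open K784.BC K784.PM K741.RP EF56 K294 Grp Arch K980 K980.BC K959 K959.CoBC K303

universe u

variable {k : Type u} [CommRing k] {A : NFᵒᵖ ⥤ CommRingCat.{u}} [GRF k A]
  {x : PrimeSpectrum (A.obj (op ⟨0⟩))} {c : CoverDatum k A x} (o : ALGOut c)

theorem flat_vx (k : Type u) [CommRing k] {A : NFᵒᵖ ⥤ CommRingCat.{u}} [GRF k A] (n : ℕ)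
    (i : Fin (n + 1)) : (vx A ⟨n⟩ i).Flat := K363.flat_pt (GRF.gr k) n i

section Glued

variable {o} {s : Desc A o.X.K} (hs : Glued o s)

include hs

theorem _root_.Groth.Agent.ResProp.EF.K303.Glued.isHom_d :
    s.IsHom s (o.X.d.restrictScalars (A.obj (op ⟨0⟩))) := fun m => by
  have h := o.X.L_d (arA o.lev 1 0 1) (flat_vx k 1 0) (flat_vx k 1 1) s.σ hs
    (bc (vx A ⟨1⟩ 0) m)
  rw [OpCpx.dx, BC.map_bc] at h
  exact h

theorem _root_.Groth.Agent.ResProp.EF.K303.Glued.isHom_pr (i : Fin (o.X.e + 1)) :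
    s.IsHom s ((o.X.pr i).restrictScalars (A.obj (op ⟨0⟩))) := fun m => by
  have h := o.X.L_pr (arA o.lev 1 0 1) (flat_vx k 1 0) (flat_vx k 1 1) s.σ hs i
    (bc (vx A ⟨1⟩ 0) m)
  rw [OpCpx.prx, BC.map_bc] at h
  exact h

theorem _root_.Groth.Agent.ResProp.EF.K303.Glued.σ_F (m : ℕ) (v : BC (vx A ⟨1⟩ 0) o.X.K)
    (hv : v ∈ o.X.toOpCpx.Fx (vx A ⟨1⟩ 0) m) : s.σ v ∈ o.X.toOpCpx.Fx (vx A ⟨1⟩ 1) m :=
  o.X.L_F (arA o.lev 1 0 1) (flat_vx k 1 0) (flat_vx k 1 1) s.σ hs m v hv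

theorem _root_.Groth.Agent.ResProp.EF.K303.Glued.symm_mem :
    s.σ.symm ∈ o.X.L (o.P.inv (arA o.lev 1 0 1)) :=
  o.X.L_inv (arA o.lev 1 0 1) (flat_vx k 1 0) (flat_vx k 1 1) s.σ hs

theorem _root_.Groth.Agent.ResProp.EF.K303.Glued.symm_F (m : ℕ) (v : BC (vx A ⟨1⟩ 1) o.X.K)
    (hv : v ∈ o.X.toOpCpx.Fx (vx A ⟨1⟩ 1) m) : s.σ.symm v ∈ o.X.toOpCpx.Fx (vx A ⟨1⟩ 0) m :=
  o.X.L_F (o.P.inv (arA o.lev 1 0 1)) (flat_vx k 1 1) (flat_vx k 1 0) s.σ.symm hs.symm_mem m v hv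

end Glued

/-! ### the vertices of `D` -/

section Vtx

/-- `BC (vx i) D → D⟨n⟩` -/
def vD (n : ℕ) (i : Fin (n + 1)) :
    BC (vx A ⟨n⟩ i) (c.Y.D.obj (op ⟨0⟩)) →ₗ[A.obj (op ⟨n⟩)] c.Y.D.obj (op ⟨n⟩) :=
  BC.lift (σ := RingHom.id _) (τ := vx A ⟨n⟩ i) (RingHom.id_comp _)
    { toFun := fun d => rg c.Y.D (pt ⟨n⟩ i) d
      map_add' := fun d d' => map_add _ d d'
      map_smul' := fun r d => by
        have h := congrArg (fun f => f.hom r) (c.Y.j.naturality (pt ⟨n⟩ i).op)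
        have h' : rg c.Y.D (pt ⟨n⟩ i) (algebraMap (A.obj (op ⟨0⟩)) (c.Y.D.obj (op ⟨0⟩)) r) =
            algebraMap (A.obj (op ⟨n⟩)) (c.Y.D.obj (op ⟨n⟩)) (rg A (pt ⟨n⟩ i) r) := h.symm
        rw [Algebra.smul_def, map_mul, h', ← Algebra.smul_def] }

theorem vD_bc (n : ℕ) (i : Fin (n + 1)) (d : c.Y.D.obj (op ⟨0⟩)) :
    vD (c := c) n i (bc (vx A ⟨n⟩ i) d) = rg c.Y.D (pt ⟨n⟩ i) d := BC.lift_bc _ _ d

theorem vD_bijective (n : ℕ) (i : Fin (n + 1)) : Function.Bijective (vD (c := c) n i) := by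
  have h1 := isBC_bc (vx A ⟨n⟩ i) (c.Y.D.obj (op ⟨0⟩))
  have h0 : IsBC (rg c.Y.D (pt ⟨n⟩ i)) (rg c.Y.D (pt ⟨n⟩ i)).toAddMonoidHom := by
    refine IsBC.of_lift (fun a m => map_mul (rg c.Y.D (pt ⟨n⟩ i)) a m) fun Q _ _ g hg => ?_
    refine ⟨LinearMap.toSpanSingleton _ Q (g 1), fun m => ?_, fun g' h => ?_⟩
    · change rg c.Y.D (pt ⟨n⟩ i) m • g 1 = g m
      rw [← hg, smul_eq_mul, mul_one]
    · refine LinearMap.ext_ring ?_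
      have h2 := h 1
      change g' (rg c.Y.D (pt ⟨n⟩ i) 1) = _ at h2
      rw [map_one] at h2
      rw [h2]
      change g 1 = (1 : c.Y.D.obj (op ⟨n⟩)) • g 1
      rw [one_smul]
  have h2 : IsBC (vx A ⟨n⟩ i) (rg c.Y.D (pt ⟨n⟩ i)).toAddMonoidHom :=
    IsBC.of_po (c.Y.cart (pt ⟨n⟩ i)) (fun r m => Algebra.smul_def r m)
      (fun r m => Algebra.smul_def r m) h0
  obtain ⟨e, he⟩ := h1.exists_equiv h2
  have h3 : vD (c := c) n i = e.toLinearMap := by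
    refine BC.hom_ext fun d => ?_
    rw [vD_bc]
    exact (he d).symm
  rw [h3]
  exact e.bijective

/-- `k ⊗ D⟨n⟩ → D⟨n⟩` -/
def lidD (n : ℕ) : k ⊗[k] c.Y.D.obj (op ⟨n⟩) →+* c.Y.D.obj (op ⟨n⟩) :=
  (Algebra.TensorProduct.lid k _).toRingHom

theorem lidD_tmul (n : ℕ) (a : k) (d : c.Y.D.obj (op ⟨n⟩)) : lidD (c := c) n (a ⊗ₜ d) = a • d :=
  Algebra.TensorProduct.lid_tmul ..

theorem lidD_lvD (n : ℕ) (r : k ⊗[k] A.obj (op ⟨n⟩)) :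
    lidD (c := c) n (lvD c k n r) = algebraMap (A.obj (op ⟨n⟩)) (c.Y.D.obj (op ⟨n⟩)) (lidR k A n r) := by
  induction r using TensorProduct.induction_on with
  | zero => simp only [map_zero]
  | add a b ha hb => simp only [map_add, ha, hb]
  | tmul a b =>
    change lidD (c := c) n (a ⊗ₜ algebraMap (A.obj (op ⟨n⟩)) (c.Y.D.obj (op ⟨n⟩)) b) =
      algebraMap (A.obj (op ⟨n⟩)) (c.Y.D.obj (op ⟨n⟩)) (Algebra.TensorProduct.lid k _ (a ⊗ₜ b))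
    rw [lidD_tmul, Algebra.TensorProduct.lid_tmul, Algebra.smul_def, Algebra.smul_def, map_mul,
      ← IsScalarTower.algebraMap_apply]

theorem vtxD_bc (B : Type u) [CommRing B] [Algebra k B] (n : ℕ) (i : Fin (n + 1))
    (d : c.Y.D.obj (op ⟨0⟩)) : vtxD c B n i (bc _ d) = 1 ⊗ₜ rg c.Y.D (pt ⟨n⟩ i) d :=
  BC.lift_bc _ _ d

theorem vD_tr (n : ℕ) (i : Fin (n + 1)) (z : BC (xp k A k n i) (c.Y.D.obj (op ⟨0⟩))) :
    vD (c := c) n i (BC.tr (lidR k A n) (lidR_xp n i) z) = lidD n (vtxD c k n i z) := by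
  induction z using BC.ind with
  | h0 => simp only [map_zero]
  | h1 r m =>
    rw [LinearMap.map_smulₛₗ, BC.tr_bc, map_smul, vD_bc, LinearMap.map_smulₛₗ, vtxD_bc,
      smul_eq_mul, map_mul, lidD_lvD, lidD_tmul, one_smul, Algebra.smul_def]
  | h2 a b ha hb => simp only [map_add, ha, hb]

theorem hAct_one (n : ℕ) (d : c.Y.D.obj (op ⟨n⟩)) :
    hAct c k n (1 : (K208.pts c.H).pt k).ofConv d = 1 ⊗ₜ d := by
  have h := (c.ρ ⟨n⟩).counit d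
  change TensorProduct.comm k _ k ((Coalgebra.counit (R := k) (A := c.H.O)).lTensor _
    ((c.ρ ⟨n⟩).ρ d)) = _
  rw [h]
  rfl

end Vtx

/-! ### semilinearity -/

section Sem

/-- `BC (vx 0) Q → D⟨1⟩` -/
def toD1 : BC (vx A ⟨1⟩ 0) o.X.Q →ₗ[A.obj (op ⟨1⟩)] c.Y.D.obj (op ⟨1⟩) :=
  vD 1 0 ∘ₗ BC.map (vx A ⟨1⟩ 0) (piR o).toLinearMap

theorem toD1_bc (q : o.X.Q) :
    toD1 o (bc (vx A ⟨1⟩ 0) q) = rg c.Y.D (pt ⟨1⟩ 0) (piR o q) := by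
  rw [toD1, LinearMap.comp_apply, BC.map_bc, vD_bc]
  rfl

theorem inv_arA (n : ℕ) (i j : Fin (n + 1)) : o.P.inv (arA o.lev n i j) = arA o.lev n j i := by
  have h1 : o.P.comp (arA o.lev n i j) (arA o.lev n j i) = o.P.id _ := by
    rw [arA, arA, ← o.P.pull_comp, o.lev.ar_comp, mul_one, o.lev.ar_one, o.P.pull_id]
  rw [← o.P.comp_id (o.P.inv (arA o.lev n i j)), ← h1, ← o.P.comp_assoc, o.P.inv_comp, o.P.id_comp]

theorem eta_arA (d : c.Y.D.obj (op ⟨0⟩)) :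
    vD (c := c) 1 0 (BC.map (vx A ⟨1⟩ 0) o.iD.toLinearMap (o.X.eta.act (arA o.lev 1 1 0)
      (bc (vx A ⟨1⟩ 1) (o.iD.symm d)))) = rg c.Y.D (pt ⟨1⟩ 1) d := by
  rw [arA, o.X.eta.act_pull, BC.pullE_bc, ← BC.tr_map, vD_tr]
  have h := o.eta_match k 1 1 0 1 d
  rw [hAct_one] at h
  have h2 := congrArg (lidD (c := c) 1) h
  rw [lidD_tmul, one_smul] at h2
  rw [← h2]
  simp only [BC.map_bc]
  rfl

theorem sem_cond (q : o.X.Q) (q2 : BC (vx A ⟨1⟩ 0) o.X.Q)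
    (h : toD1 o q2 = rg c.Y.D (pt ⟨1⟩ 1) (piR o q)) :
    o.X.eta.act (arA o.lev 1 1 0) (o.X.toOpCpx.πx (vx A ⟨1⟩ 1) (bc (vx A ⟨1⟩ 1) q)) =
      o.X.toOpCpx.πx (vx A ⟨1⟩ 0) q2 := by
  apply (BC.congr (x := vx A ⟨1⟩ 0) o.iD.toLinearEquiv).injective
  change BC.map (vx A ⟨1⟩ 0) o.iD.toLinearMap _ = BC.map (vx A ⟨1⟩ 0) o.iD.toLinearMap _
  apply (vD_bijective (c := c) 1 0).1
  have h1 := eta_arA o (piR o q)
  have h2 : o.iD.symm (piR o q) = o.X.π q := o.iD.symm_apply_apply _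
  rw [h2] at h1
  rw [OpCpx.πx, BC.map_bc, OpCpx.πx, BC.map_map]
  exact h1.trans h.symm

variable {o} {s : Desc A o.X.K} (hs : Glued o s)

include hs in
/-- **the descent datum is semilinear on the graded pieces** -/
theorem _root_.Groth.Agent.ResProp.EF.K303.Glued.sem (q : o.X.Q) (q2 : BC (vx A ⟨1⟩ 0) o.X.Q)
    (h : toD1 o q2 = rg c.Y.D (pt ⟨1⟩ 1) (piR o q)) (m : ℕ) (v : o.X.K) (hv : v ∈ o.X.F m) :
    o.X.toOpCpx.actQ (vx A ⟨1⟩ 0) q2 (s.σ.symm (bc (vx A ⟨1⟩ 1) v)) -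
      s.σ.symm (bc (vx A ⟨1⟩ 1) (q • v)) ∈ o.X.toOpCpx.Fx (vx A ⟨1⟩ 0) (m + 1) := by
  have hi := hs.symm_mem
  rw [inv_arA] at hi
  have hv1 : bc (vx A ⟨1⟩ 1) v ∈ o.X.toOpCpx.Fx (vx A ⟨1⟩ 1) m :=
    ⟨bc (vx A ⟨1⟩ 1) (⟨v, hv⟩ : (o.X.F m).restrictScalars (A.obj (op ⟨0⟩))), BC.map_bc _ _⟩
  have h1 := o.X.L_semF (arA o.lev 1 1 0) (flat_vx k 1 1) (flat_vx k 1 0) s.σ.symm hi m
    (bc (vx A ⟨1⟩ 1) q) q2 (sem_cond o q q2 h) (bc (vx A ⟨1⟩ 1) v) hv1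
  have h2 : o.X.toOpCpx.actQ (vx A ⟨1⟩ 1) (bc (vx A ⟨1⟩ 1) q) (bc (vx A ⟨1⟩ 1) v) =
      bc (vx A ⟨1⟩ 1) (q • v) := by
    rw [OpCpx.actQ, BC.bil_bc]
    rfl
  rw [h2] at h1
  rw [← neg_sub]
  exact Submodule.neg_mem _ h1

end Sem

end Groth.Agent.ResProp.EF.K661
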