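import Groth.Agent.ResProp.EF.K661.TowerC
import Groth.Agent.ResProp.EF.K104.Adm

/-!
# helper661: the tower of `OpPkg` (G5, node B2)
-/

set_option autoImplicit false

universe u

open TensorProduct Groth.Agent.ResProp.EF.Grp Groth.Agent.ResProp.EF.K104
  Groth.Agent.ResProp.EF.K649 Groth.Agent.ResProp.EF.K208 WithConv

namespace Groth.Agent.ResProp.EF.K661

variable {k : Type u} [CommRing k] {H0 : Gp k} {n : ℕ} (P : OpPkg (pts H0) n)

attribute [local instance] convGrp

/-- `MRep` as a natural matrix representation. -/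
noncomputable def mr (T : MRep H0) : MR (pts H0) T.I where
  ρ B _ _ := T.rho B
  nat f h := T.rho_nat f h

theorem mr_mul (T T' : MRep H0) : mr (T.mul T') = (mr T).mul (mr T') := by
  apply MR.ext'
  intro B _ _ g
  ext i j
  change (g : WithConv (H0.O →ₐ[k] B)).ofConv (T.R i.1 j.1 * T'.R i.2 j.2) =
    (g : WithConv (H0.O →ₐ[k] B)).ofConv (T'.R i.2 j.2) *
      (g : WithConv (H0.O →ₐ[k] B)).ofConv (T.R i.1 j.1)
  rw [map_mul, mul_comm]

/-- The `H0`-module structure on the graded pieces: the coaction is the conjugation with lifts. -/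
structure GrDat where
  co : ∀ j : ℕ, HopfRep.Comod k H0.O (GQ P j)
  act_eq : ∀ (j : ℕ) (hj : 1 ≤ j) (B : Type u) [CommRing B] [Algebra k B] [Module.Flat k B]
    (g : (pts H0).pt B) (x : B ⊗[k] GQ P j),
    actM (co j).coact g (TensorProduct.comm k B (GQ P j) x) =
      TensorProduct.comm k B (GQ P j) (cj P B j hj g x)

variable {P} (G : GrDat P)

/-- `gr j` as a module. -/
abbrev GrDat.gr (j : ℕ) : GMod H0 where
  V := GQ P j
  co := G.co j

open Classical in
/-- the projection to the graded pieces, with junk values on non flat algebras -/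
noncomputable def qT (T : MRep H0) (j : ℕ) (B : Type u) [CommRing B] [Algebra k B]
    (x : NFil P (mr T) j B) : Matrix T.I T.I (GQ P j ⊗[k] B) :=
  if h : 1 ≤ j ∧ Module.Flat k B then
    haveI := h.2
    qF P (mr T) h.1 x
  else 0

theorem qT_eq (T : MRep H0) {j : ℕ} (hj : 1 ≤ j) (B : Type u) [CommRing B] [Algebra k B]
    [hB : Module.Flat k B] (x : NFil P (mr T) j B) :
    qT T j B x = qF P (mr T) hj x := by
  unfold qT
  rw [dif_pos ⟨hj, hB⟩]

theorem qT_zero (T : MRep H0) {j : ℕ} (hj : ¬ 1 ≤ j) (B : Type u) [CommRing B] [Algebra k B]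
    (x : NFil P (mr T) j B) : qT T j B x = 0 := by
  unfold qT
  rw [dif_neg (fun h => hj h.1)]

theorem qT_nat (T : MRep H0) (j : ℕ) {B C : Type u} [CommRing B] [Algebra k B] [CommRing C]
    [Algebra k C] [Module.Flat k B] [Module.Flat k C] (f : B →ₐ[k] C) (x : NFil P (mr T) j B) :
    qT T j C ⟨(NF P (mr T)).map f x, NFil_map P (mr T) j f x x.2⟩ =
      (qT T j B x).map (f.toLinearMap.lTensor (GQ P j)) := by
  by_cases hj : 1 ≤ j
  · rw [qT_eq T hj, qT_eq T hj]
    exact qF_nat P (mr T) f hj x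
  · rw [qT_zero T hj, qT_zero T hj]
    ext a b
    rw [Matrix.map_apply, Matrix.zero_apply, Matrix.zero_apply, map_zero]

theorem qT_conj (T : MRep H0) {j : ℕ} (hj : 1 ≤ j) {B : Type u} [CommRing B] [Algebra k B]
    [Module.Flat k B] (m : (NF P (mr T)).pt B) (x : NFil P (mr T) j B) :
    qT T j B ⟨m * (x : (NF P (mr T)).pt B) * m⁻¹, NFil_conj P (mr T) j B m x x.2⟩ =
      (matMod T (G.gr j)).act B ((NFπ P (mr T)).app B m) (qT T j B x) := by
  rw [qT_eq T hj, qT_eq T hj]
  refine Matrix.ext fun a b => ?_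
  rw [matMod_act_apply, qF_conj]
  refine Finset.sum_congr rfl fun c _ => Finset.sum_congr rfl fun d _ => ?_
  congr 1
  rw [← G.act_eq, LinearEquiv.apply_symm_apply]
  rfl

/-- **The tower of an operator package.** -/
noncomputable def tower : Tower.{u, max 1 u} (pts H0) where
  Tw := MRep H0
  one := MRep.one H0
  mul := MRep.mul
  n := n
  N T := NF P (mr T)
  π T := NFπ P (mr T)
  π_surj T B _ _ _ := NFπ_surj P (mr T) B
  Fil T j B _ _ := NFil P (mr T) j B
  Fil_map T j {B C} _ _ _ _ f x hx := NFil_map P (mr T) j f x hx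
  Fil_one T B _ _ _ x hx := NFil_one P (mr T) B x hx
  Fil_last T B _ _ _ x hx := NFil_last P (mr T) B x hx
  Fil_π T j B _ _ x _ hx := NFil_π P (mr T) j B x hx
  Fil_conj T j B _ _ m x hx := NFil_conj P (mr T) j B m x hx
  Q T j := matMod T (G.gr j)
  q T j B _ _ x := qT T j B x
  q_nat T j {B C} _ _ _ _ _ _ f x := qT_nat T j f x
  q_mul T j B _ _ _ x y hj _ := by
    rw [qT_eq T hj, qT_eq T hj, qT_eq T hj]
    exact qF_mul P (mr T) hj x y
  q_surj T j B _ _ _ hj _ := by
    intro X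
    obtain ⟨x, hx⟩ := qF_surj P (mr T) hj X
    exact ⟨x, (qT_eq T hj B x).trans hx⟩
  q_ker T j B _ _ _ x hj _ hx := qF_ker P (mr T) hj x ((qT_eq T hj B x).symm.trans hx)
  q_conj T j B _ _ _ m x hj _ := qT_conj G T hj m x
  τ T T' := NFτ' P (mr_mul T T')
  τ_π T T' B _ _ x := NFτ'_π P (mr_mul T T') B x
  τ_Fil T T' j B _ _ x hx := NFτ'_Fil P (mr_mul T T') j B x hx
  θ T T' j := theta T T' (G.gr j)
  q_τ T T' j B _ _ _ x hj _ := by
    rw [qT_eq (T.mul T') hj, qT_eq T hj]
    refine Matrix.ext (m := T.I × T'.I) (n := T.I × T'.I) fun a b => ?_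
    rw [theta_apply]
    exact qF_τ P (mr_mul T T') hj x a b

end Groth.Agent.ResProp.EF.K661
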