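import Groth.Agent.ResProp.EF.K661.Tower
import Groth.Agent.ResProp.EF.K90.Theta
import Groth.Agent.ResProp.EF.K226.KapG
import Groth.Agent.ResProp.EF.K778.TowerMod

/-!
# Section 5 complete: every operator package over `H` lifts to an admissible group
-/

set_option autoImplicit false

universe u

open TensorProduct WithConv

noncomputable section

namespace Groth.Agent.ResProp.EF.K661

open Groth.Agent.ResProp.EF.Grp Groth.Agent.ResProp.EF.K104 Groth.Agent.ResProp.EF.K649
  Groth.Agent.ResProp.EF.K208

variable {k : Type u} [CommRing k] {H0 : Gp k} {n : ℕ} (P : OpPkg (pts H0) n)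

/-- The graded pieces of `towerOf P` are comodules. -/
def towerMod : K778.TowerMod H0 (towerOf P) where
  Q T j := K90.matG T (gr P j)
  iso T j _ _ B _ _ _ := K90.isoF T (gr P j) B
  iso_nat T j _ _ {B C} _ _ _ _ _ _ f x := K90.isoF_nat T (gr P j) f x
  iso_act T j _ _ B _ _ _ g x := K90.isoF_act T (gr P j) B g x
  tw T' hL e T j _ _ := by
    have := hL.free
    have := hL.fin
    have := hL.nontriv
    have : Nontrivial k := Module.nontrivial k T'.V
    let b := Module.finBasis k T'.V
    have : Nonempty (Fin (Module.finrank k T'.V)) := b.index_nonempty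
    exact ⟨K226.mrepOf T' b, K226.kapG T (gr P j) T' b e, K226.kapG_hom T (gr P j) T' b e,
      fun B _ _ _ x => K226.kapG_one T (gr P j) T' b e B x⟩

/-- **The killing lemma for the tower.** -/
theorem kill_towerOf (hK : Grp.Kill H0) : K104.Kill (towerOf P) (AdmP H0) :=
  K778.kill_of_towerMod H0 hK (towerOf P) (towerMod P)

/-- **Section 5**: an operator package over `H0` lifts to an admissible group `E → H0`. -/
theorem exists_lift (hK : Grp.Kill H0) :
    ∃ (E : Gp k) (ι : H0.O →ₐc[k] E.O) (T : MRep H0) (s : GHom (pts E) (NF P (mr T))),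
      Grp.Adm H0 E ι ∧ ∀ (B : Type u) [CommRing B] [Algebra k B] (g : E.O →ₐ[k] B),
        (NFπ P (mr T)).app B (s.app B (mkPt E g)) = mkPt H0 (g.comp (ι : H0.O →ₐ[k] E.O)) :=
  lift_rep (towerOf P) (kill_towerOf P hK)

end Groth.Agent.ResProp.EF.K661
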