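import Mathlib.Tactic.NoncommRing
import Mathlib.Data.Matrix.Mul
import Mathlib.Data.Matrix.Basic
import Mathlib.LinearAlgebra.Matrix.GeneralLinearGroup.Defs
import Mathlib.Algebra.Algebra.Subalgebra.Basic
import Mathlib.LinearAlgebra.Quotient.Basic
import Mathlib.RingTheory.Nilpotent.Basic
import Mathlib.Data.Matrix.Basis
import Mathlib.GroupTheory.QuotientGroup.Basic

/-!
# helper661: operator packages over one ring and their matrix twists (EF, section 5, node B2)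

* `Fl B AA k`: a `B`-algebra `AA` (`B` central) with `B`-submodules `D j` (`j ≥ 1` counts) such that
  `D i * D j ⊆ D (i+j)`, decreasing, `D (k+1) = 0`;  `Fl.onePlus j hj = 1 + D j ≤ AAˣ`,
  `Fl.gr j = D j / D (j+1)`, `Fl.q j hj : 1 + D j →* Multiplicative (gr j)` onto, kernel `1 + D (j+1)`.
* `Pk B AA Hb k`: a `Fl` and a subgroup `N0 ≤ Hb × AAˣ` (pairs `(h, lift of h)`), onto `Hb`, with
  kernel `1 + D 1`, whose conjugation preserves every `D j`;  `Pk.act j hj h` = the action of `h`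
  on `gr j` (`act_cl`: conjugation with any lift), `act_one`, `act_mul`, `q_conj`.
* `Pk.twist P ρ` for `ρ : Hb →* (Matrix n n B)ˣ`: the same on `Matrix n n AA`.
* `kr X R`: Kronecker product of `X : Matrix n n AA` with `R : Matrix m m B`; `Pk.τ_mem`,
  `Pk.θ`, `Pk.q_τ`.
* functoriality `Pk.IsMap`, `Pk.IsMap.twist`.
-/

universe u v w

namespace Groth.Agent.ResProp.EF.K661

/-- A nilpotent multiplicative filtration `D 1 ⊇ D 2 ⊇ .. ⊇ D (k+1) = 0` of a `B`-algebra. -/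
structure Fl (B : Type*) [CommRing B] (AA : Type*) [Ring AA] [Algebra B AA] (k : ℕ) where
  D : ℕ → Submodule B AA
  mul_mem : ∀ {i j : ℕ}, 1 ≤ i → 1 ≤ j → ∀ {x y : AA}, x ∈ D i → y ∈ D j → x * y ∈ D (i + j)
  anti : ∀ {i j : ℕ}, i ≤ j → D j ≤ D i
  top : D (k + 1) = ⊥

namespace Fl

variable {B : Type*} [CommRing B] {AA : Type*} [Ring AA] [Algebra B AA] {k : ℕ} (P : Fl B AA k)

include P in
theorem pow_mem {j : ℕ} (hj : 1 ≤ j) {x : AA} (hx : x ∈ P.D j) (m : ℕ) :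
    x ^ (m + 1) ∈ P.D (j * (m + 1)) := by
  induction m with
  | zero => simpa using hx
  | succ m ih =>
    rw [pow_succ, Nat.mul_succ]
    exact P.mul_mem (Nat.mul_pos hj (Nat.succ_pos m)) hj ih hx

include P in
theorem pow_eq_zero {j : ℕ} (hj : 1 ≤ j) {x : AA} (hx : x ∈ P.D j) : x ^ (k + 1) = 0 := by
  have h1 := P.pow_mem hj hx k
  have h2 : P.D (j * (k + 1)) ≤ P.D (k + 1) := P.anti (Nat.le_mul_of_pos_left _ hj)
  have h3 := h2 h1
  rw [P.top] at h3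
  simpa using h3

theorem geom_mem {j : ℕ} (hj : 1 ≤ j) {x : AA} (hx : x ∈ P.D j) (m : ℕ) :
    (∑ i ∈ Finset.range m, (-x) ^ (i + 1)) ∈ P.D j := by
  refine Submodule.sum_mem _ fun i _ => ?_
  have h1 : (-x) ∈ P.D j := (P.D j).neg_mem hx
  exact P.anti (Nat.le_mul_of_pos_right _ (Nat.succ_pos i)) (P.pow_mem hj h1 i)

/-- the inverse of `1 + x` is `1 + (element of D j)`. -/
theorem exists_inv {j : ℕ} (hj : 1 ≤ j) {x : AA} (hx : x ∈ P.D j) :
    ∃ y ∈ P.D j, (1 + x) * (1 + y) = 1 ∧ (1 + y) * (1 + x) = 1 := by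
  have hnil : (-x) ^ (k + 1) = 0 := P.pow_eq_zero hj ((P.D j).neg_mem hx)
  refine ⟨∑ i ∈ Finset.range k, (-x) ^ (i + 1), P.geom_mem hj hx k, ?_, ?_⟩
  · have h1 : (1 + ∑ i ∈ Finset.range k, (-x) ^ (i + 1)) = ∑ i ∈ Finset.range (k + 1), (-x) ^ i := by
      rw [Finset.sum_range_succ' (fun i => (-x) ^ i)]; simp [add_comm]
    rw [h1]
    have h2 := mul_neg_geom_sum (-x) (k + 1)
    rw [hnil] at h2
    simpa using h2
  · have h1 : (1 + ∑ i ∈ Finset.range k, (-x) ^ (i + 1)) = ∑ i ∈ Finset.range (k + 1), (-x) ^ i := by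
      rw [Finset.sum_range_succ' (fun i => (-x) ^ i)]; simp [add_comm]
    rw [h1]
    have h2 := geom_sum_mul_neg (-x) (k + 1)
    rw [hnil] at h2
    simpa using h2

/-- `1 + x` as a unit. -/
theorem exists_unit {j : ℕ} (hj : 1 ≤ j) {x : AA} (hx : x ∈ P.D j) :
    ∃ u : AAˣ, (u : AA) = 1 + x := by
  obtain ⟨y, -, h1, h2⟩ := P.exists_inv hj hx
  exact ⟨⟨1 + x, 1 + y, h1, h2⟩, rfl⟩

/-- The group `1 + D j`. -/
def onePlus (j : ℕ) (hj : 1 ≤ j) : Subgroup AAˣ where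
  carrier := {u | (u : AA) - 1 ∈ P.D j}
  one_mem' := by simp
  mul_mem' := by
    intro u v hu hv
    have h : ((u * v : AAˣ) : AA) - 1 =
        ((u : AA) - 1) * ((v : AA) - 1) + ((u : AA) - 1) + ((v : AA) - 1) := by
      push_cast; noncomm_ring
    change ((u * v : AAˣ) : AA) - 1 ∈ P.D j
    rw [h]
    exact (P.D j).add_mem ((P.D j).add_mem
      (P.anti (Nat.le_add_right j j) (P.mul_mem hj hj hu hv)) hu) hv
  inv_mem' := by
    intro u hu
    change ((u⁻¹ : AAˣ) : AA) - 1 ∈ P.D j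
    obtain ⟨y, hy, h1, h2⟩ := P.exists_inv hj hu
    have hu' : (u : AA) = 1 + ((u : AA) - 1) := by abel
    have h3 : ((u⁻¹ : AAˣ) : AA) = 1 + y := by
      have : (u : AA) * (1 + y) = 1 := by rw [hu']; exact h1
      exact (Units.inv_eq_of_mul_eq_one_right this)
    rw [h3]; simpa using hy

theorem mem_onePlus {j : ℕ} {hj : 1 ≤ j} {u : AAˣ} : u ∈ P.onePlus j hj ↔ (u : AA) - 1 ∈ P.D j :=
  Iff.rfl

theorem onePlus_anti {i j : ℕ} (hi : 1 ≤ i) (hij : i ≤ j) :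
    P.onePlus j (hi.trans hij) ≤ P.onePlus i hi := fun _ hu => P.anti hij hu

/-- conjugation with `u ∈ 1 + D 1` is the identity modulo `D (j+1)` on `D j`. -/
theorem conj_sub_mem {u : AAˣ} (hu : u ∈ P.onePlus 1 le_rfl) {j : ℕ} (hj : 1 ≤ j) {x : AA}
    (hx : x ∈ P.D j) : (u : AA) * x * ((u⁻¹ : AAˣ) : AA) - x ∈ P.D (j + 1) := by
  have hu' : ((u⁻¹ : AAˣ) : AA) - 1 ∈ P.D 1 := (P.onePlus 1 le_rfl).inv_mem hu
  have h : (u : AA) * x * ((u⁻¹ : AAˣ) : AA) - x =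
      ((u : AA) - 1) * x + (x * (((u⁻¹ : AAˣ) : AA) - 1)) +
        ((u : AA) - 1) * x * (((u⁻¹ : AAˣ) : AA) - 1) := by noncomm_ring
  rw [h]
  have h1 : ((u : AA) - 1) * x ∈ P.D (1 + j) := P.mul_mem le_rfl hj hu hx
  have h2 : x * (((u⁻¹ : AAˣ) : AA) - 1) ∈ P.D (j + 1) := P.mul_mem hj le_rfl hx hu'
  have h3 : ((u : AA) - 1) * x * (((u⁻¹ : AAˣ) : AA) - 1) ∈ P.D ((1 + j) + 1) :=
    P.mul_mem (by omega) le_rfl h1 hu'
  exact (P.D _).add_mem ((P.D _).add_mem (P.anti (by omega) h1) h2) (P.anti (by omega) h3)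

theorem conj_mem {u : AAˣ} (hu : u ∈ P.onePlus 1 le_rfl) {j : ℕ} (hj : 1 ≤ j) {x : AA}
    (hx : x ∈ P.D j) : (u : AA) * x * ((u⁻¹ : AAˣ) : AA) ∈ P.D j := by
  have h := P.anti (Nat.le_succ j) (P.conj_sub_mem hu hj hx)
  have h2 := (P.D j).add_mem h hx
  simpa using h2

/-- the graded pieces `D j / D (j+1)`. -/
abbrev gr (j : ℕ) : Type _ := (P.D j) ⧸ ((P.D (j + 1)).comap (P.D j).subtype)

/-- class of an element of `D j`. -/
def cl (j : ℕ) : P.D j →ₗ[B] P.gr j := Submodule.mkQ _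

theorem cl_eq_zero {j : ℕ} (x : P.D j) : P.cl j x = 0 ↔ (x : AA) ∈ P.D (j + 1) := by
  simp [cl, Submodule.Quotient.mk_eq_zero]

theorem cl_eq {j : ℕ} (x y : P.D j) : P.cl j x = P.cl j y ↔ (x : AA) - y ∈ P.D (j + 1) := by
  rw [← sub_eq_zero, ← map_sub, cl_eq_zero]; rfl

theorem cl_surjective (j : ℕ) : Function.Surjective (P.cl j) := Submodule.mkQ_surjective _

/-- `q : 1 + D j → gr j`. -/
def q (j : ℕ) (hj : 1 ≤ j) : P.onePlus j hj →* Multiplicative (P.gr j) where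
  toFun u := Multiplicative.ofAdd (P.cl j ⟨(u : AAˣ) - 1, u.2⟩)
  map_one' := by
    change P.cl j _ = 0
    rw [cl_eq_zero]; simp
  map_mul' u v := by
    change P.cl j _ = P.cl j _ + P.cl j _
    rw [← map_add, cl_eq]
    have h : (((u * v : P.onePlus j hj) : AAˣ) : AA) - 1 -
        (((u : AAˣ) : AA) - 1 + (((v : AAˣ) : AA) - 1)) =
        (((u : AAˣ) : AA) - 1) * (((v : AAˣ) : AA) - 1) := by
      push_cast; noncomm_ring
    change (((u * v : P.onePlus j hj) : AAˣ) : AA) - 1 -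
        (((u : AAˣ) : AA) - 1 + (((v : AAˣ) : AA) - 1)) ∈ _
    rw [h]
    exact P.anti (by omega) (P.mul_mem hj hj u.2 v.2)

theorem q_apply {j : ℕ} {hj : 1 ≤ j} (u : P.onePlus j hj) :
    Multiplicative.toAdd (P.q j hj u) = P.cl j ⟨(u : AAˣ) - 1, u.2⟩ := rfl

theorem q_surjective (j : ℕ) (hj : 1 ≤ j) : Function.Surjective (P.q j hj) := by
  intro x
  obtain ⟨y, hy⟩ := P.cl_surjective j (Multiplicative.toAdd x)
  obtain ⟨u, hu⟩ := P.exists_unit hj y.2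
  refine ⟨⟨u, by rw [mem_onePlus, hu]; simp⟩, ?_⟩
  apply Multiplicative.toAdd.injective
  rw [q_apply, ← hy, cl_eq]
  simp [hu]

theorem q_eq_one {j : ℕ} {hj : 1 ≤ j} (u : P.onePlus j hj) :
    P.q j hj u = 1 ↔ (u : AAˣ) ∈ P.onePlus (j + 1) (by omega) := by
  have : P.q j hj u = 1 ↔ P.cl j ⟨(u : AAˣ) - 1, u.2⟩ = 0 := Iff.rfl
  rw [this, cl_eq_zero]; rfl

end Fl

/-- A filtered algebra with a group of lifts of the elements of `Hb`. -/
structure Pk (B : Type*) [CommRing B] (AA : Type*) [Ring AA] [Algebra B AA]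
    (Hb : Type*) [Group Hb] (k : ℕ) extends Fl B AA k where
  N0 : Subgroup (Hb × AAˣ)
  surj : ∀ h : Hb, ∃ ψ : AAˣ, (h, ψ) ∈ N0
  ker : ∀ ψ : AAˣ, ((1 : Hb), ψ) ∈ N0 ↔ (ψ : AA) - 1 ∈ D 1
  conj : ∀ {h : Hb} {ψ : AAˣ}, (h, ψ) ∈ N0 → ∀ {j : ℕ}, 1 ≤ j → ∀ {x : AA}, x ∈ D j →
    (ψ : AA) * x * ((ψ⁻¹ : AAˣ) : AA) ∈ D j

namespace Pk

variable {B : Type*} [CommRing B] {AA : Type*} [Ring AA] [Algebra B AA]
  {Hb : Type*} [Group Hb] {k : ℕ} (P : Pk B AA Hb k)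

/-- conjugation with `ψ` on `D j`. -/
def conjD {h : Hb} {ψ : AAˣ} (hn : (h, ψ) ∈ P.N0) {j : ℕ} (hj : 1 ≤ j) : P.D j →ₗ[B] P.D j where
  toFun x := ⟨(ψ : AA) * x * ((ψ⁻¹ : AAˣ) : AA), P.conj hn hj x.2⟩
  map_add' x y := by ext; simp [mul_add, add_mul]
  map_smul' b x := by ext; simp

theorem conjD_coe {h : Hb} {ψ : AAˣ} (hn : (h, ψ) ∈ P.N0) {j : ℕ} (hj : 1 ≤ j) (x : P.D j) :
    ((P.conjD hn hj x : P.D j) : AA) = (ψ : AA) * x * ((ψ⁻¹ : AAˣ) : AA) := rfl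

/-- conjugation with `ψ` on `gr j`. -/
def conjGr {h : Hb} {ψ : AAˣ} (hn : (h, ψ) ∈ P.N0) {j : ℕ} (hj : 1 ≤ j) :
    P.gr j →ₗ[B] P.gr j :=
  Submodule.mapQ _ _ (P.conjD hn hj) (by
    intro x hx
    simp only [Submodule.mem_comap, Submodule.subtype_apply] at hx ⊢
    exact P.conj hn (by omega) hx)

theorem conjGr_cl {h : Hb} {ψ : AAˣ} (hn : (h, ψ) ∈ P.N0) {j : ℕ} (hj : 1 ≤ j) (x : P.D j) :
    P.conjGr hn hj (P.cl j x) = P.cl j (P.conjD hn hj x) := rfl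

theorem conjGr_indep {h : Hb} {ψ ψ' : AAˣ} (hn : (h, ψ) ∈ P.N0) (hn' : (h, ψ') ∈ P.N0) {j : ℕ}
    (hj : 1 ≤ j) : P.conjGr hn hj = P.conjGr hn' hj := by
  refine LinearMap.ext fun x => ?_
  obtain ⟨x, rfl⟩ := P.cl_surjective j x
  rw [conjGr_cl, conjGr_cl, Fl.cl_eq, conjD_coe, conjD_coe]
  set u : AAˣ := ψ' * ψ⁻¹ with hu
  have hu1 : ((1 : Hb), u) ∈ P.N0 := by
    have := P.N0.mul_mem hn' (P.N0.inv_mem hn)
    simpa [hu] using this
  have hu2 : u ∈ P.onePlus 1 le_rfl := (P.ker u).1 hu1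
  have h1 := P.conj_sub_mem hu2 hj (P.conj hn hj x.2)
  have h2 : (ψ' : AA) * x * ((ψ'⁻¹ : AAˣ) : AA) =
      (u : AA) * ((ψ : AA) * x * ((ψ⁻¹ : AAˣ) : AA)) * ((u⁻¹ : AAˣ) : AA) := by
    have e1 : (u : AA) * (ψ : AA) = (ψ' : AA) := by rw [← Units.val_mul, hu]; simp
    have e2 : ((ψ⁻¹ : AAˣ) : AA) * ((u⁻¹ : AAˣ) : AA) = ((ψ'⁻¹ : AAˣ) : AA) := by
      rw [← Units.val_mul, hu]; simp
    rw [← e1, ← e2]; noncomm_ring
  rw [h2]
  have := (P.D (j + 1)).neg_mem h1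
  simpa using this

/-- The action of `h` on `gr j`. -/
noncomputable def act (j : ℕ) (hj : 1 ≤ j) (h : Hb) : P.gr j →ₗ[B] P.gr j :=
  P.conjGr (P.surj h).choose_spec hj

theorem act_eq {h : Hb} {ψ : AAˣ} (hn : (h, ψ) ∈ P.N0) {j : ℕ} (hj : 1 ≤ j) :
    P.act j hj h = P.conjGr hn hj := P.conjGr_indep _ _ _

theorem act_cl {h : Hb} {ψ : AAˣ} (hn : (h, ψ) ∈ P.N0) {j : ℕ} (hj : 1 ≤ j) (x : P.D j) :
    P.act j hj h (P.cl j x) =
      P.cl j ⟨(ψ : AA) * x * ((ψ⁻¹ : AAˣ) : AA), P.conj hn hj x.2⟩ := by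
  rw [P.act_eq hn hj]; rfl

theorem act_one (j : ℕ) (hj : 1 ≤ j) (x : P.gr j) : P.act j hj 1 x = x := by
  obtain ⟨x, rfl⟩ := P.cl_surjective j x
  rw [P.act_cl P.N0.one_mem hj]
  congr 1; ext; simp

theorem act_mul (j : ℕ) (hj : 1 ≤ j) (g h : Hb) (x : P.gr j) :
    P.act j hj (g * h) x = P.act j hj g (P.act j hj h x) := by
  obtain ⟨x, rfl⟩ := P.cl_surjective j x
  obtain ⟨ψ, hψ⟩ := P.surj g
  obtain ⟨φ, hφ⟩ := P.surj h
  have hm : (g * h, ψ * φ) ∈ P.N0 := P.N0.mul_mem hψ hφ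
  rw [P.act_cl hm hj, P.act_cl hφ hj, P.act_cl hψ hj]
  congr 1; ext
  simp [mul_assoc]

/-- conjugation in the group `1 + D j` and the action on `gr j`. -/
theorem q_conj {h : Hb} {ψ : AAˣ} (hn : (h, ψ) ∈ P.N0) {j : ℕ} (hj : 1 ≤ j)
    (u : P.onePlus j hj) (hu : ψ * u * ψ⁻¹ ∈ P.onePlus j hj) :
    Multiplicative.toAdd (P.q j hj ⟨ψ * u * ψ⁻¹, hu⟩) =
      P.act j hj h (Multiplicative.toAdd (P.q j hj u)) := by
  rw [Fl.q_apply, Fl.q_apply, P.act_cl hn hj]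
  congr 1; ext
  simp [mul_sub, sub_mul]

theorem conj_onePlus {h : Hb} {ψ : AAˣ} (hn : (h, ψ) ∈ P.N0) {j : ℕ} (hj : 1 ≤ j)
    {u : AAˣ} (hu : u ∈ P.onePlus j hj) : ψ * u * ψ⁻¹ ∈ P.onePlus j hj := by
  rw [Fl.mem_onePlus] at hu ⊢
  have h1 := P.conj hn hj hu
  simpa [mul_sub, sub_mul] using h1

end Pk

/-! ## Matrices -/

section Mat

variable {B : Type*} [CommRing B] {AA : Type*} [Ring AA] [Algebra B AA]
  {n : Type*} [Fintype n] [DecidableEq n] {m : Type*} [Fintype m] [DecidableEq m]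

/-- matrices with entries in `S`. -/
def matD (n : Type*) (S : Submodule B AA) : Submodule B (Matrix n n AA) where
  carrier := {X | ∀ a b, X a b ∈ S}
  add_mem' hX hY a b := S.add_mem (hX a b) (hY a b)
  zero_mem' _ _ := S.zero_mem
  smul_mem' b _ hX a c := S.smul_mem b (hX a c)

omit [Fintype n] [DecidableEq n] in
theorem mem_matD {S : Submodule B AA} {X : Matrix n n AA} : X ∈ matD n S ↔ ∀ a b, X a b ∈ S :=
  Iff.rfl

/-- The filtration of the matrix algebra. -/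
def Fl.mat {k : ℕ} (P : Fl B AA k) (n : Type*) [Fintype n] [DecidableEq n] :
    Fl B (Matrix n n AA) k where
  D j := matD n (P.D j)
  mul_mem hi hj x y hx hy a b := by
    rw [Matrix.mul_apply]
    exact Submodule.sum_mem _ fun c _ => P.mul_mem hi hj (hx a c) (hy c b)
  anti h _ hx a b := P.anti h (hx a b)
  top := by
    rw [eq_bot_iff]
    intro X hX
    rw [Submodule.mem_bot]
    ext a b
    have := hX a b
    rw [P.top] at this
    simpa using this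

/-- The embedding of the matrices over `B`. -/
def emb (AA : Type*) [Ring AA] [Algebra B AA] (n : Type*) [Fintype n] [DecidableEq n] :
    Matrix n n B →+* Matrix n n AA := (algebraMap B AA).mapMatrix

theorem emb_apply (R : Matrix n n B) (a b : n) : emb AA n R a b = algebraMap B AA (R a b) := rfl

theorem emb_mul_apply (R : Matrix n n B) (X : Matrix n n AA) (a b : n) :
    (emb AA n R * X) a b = ∑ c, R a c • X c b := by
  rw [Matrix.mul_apply]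
  exact Finset.sum_congr rfl fun c _ => by rw [emb_apply, Algebra.smul_def]

theorem mul_emb_apply (R : Matrix n n B) (X : Matrix n n AA) (a b : n) :
    (X * emb AA n R) a b = ∑ c, R c b • X a c := by
  rw [Matrix.mul_apply]
  exact Finset.sum_congr rfl fun c _ => by rw [emb_apply, Algebra.smul_def, Algebra.commutes]

theorem emb_mul_mem {S : Submodule B AA} (R : Matrix n n B) {X : Matrix n n AA}
    (hX : X ∈ matD n S) : emb AA n R * X ∈ matD n S := fun a b => by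
  rw [emb_mul_apply]
  exact Submodule.sum_mem _ fun c _ => S.smul_mem _ (hX c b)

theorem mul_emb_mem {S : Submodule B AA} (R : Matrix n n B) {X : Matrix n n AA}
    (hX : X ∈ matD n S) : X * emb AA n R ∈ matD n S := fun a b => by
  rw [mul_emb_apply]
  exact Submodule.sum_mem _ fun c _ => S.smul_mem _ (hX a c)

theorem scalar_mul_apply (x : AA) (X : Matrix n n AA) (a b : n) :
    (Matrix.scalar n x * X) a b = x * X a b := by
  simp [Matrix.scalar_apply, Matrix.diagonal_mul]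

theorem mul_scalar_apply (x : AA) (X : Matrix n n AA) (a b : n) :
    (X * Matrix.scalar n x) a b = X a b * x := by
  simp [Matrix.scalar_apply, Matrix.mul_diagonal]

theorem scalar_emb_comm (x : AA) (R : Matrix n n B) :
    Matrix.scalar n x * emb AA n R = emb AA n R * Matrix.scalar n x := by
  ext a b
  rw [scalar_mul_apply, mul_scalar_apply, emb_apply, Algebra.commutes]

theorem scalar_mem {S : Submodule B AA} {x : AA} (hx : x ∈ S) :
    Matrix.scalar n x ∈ matD n S := fun a b => by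
  simp only [Matrix.scalar_apply, Matrix.diagonal_apply]
  split_ifs
  · exact hx
  · exact S.zero_mem

variable {Hb : Type*} [Group Hb]

/-- `(h, ψ) ↦ ψ ρ(h)`. -/
def wHom (ρ : Hb →* (Matrix n n B)ˣ) : Hb × AAˣ →* (Matrix n n AA)ˣ where
  toFun p := Units.map (Matrix.scalar n).toMonoidHom p.2 *
    Units.map (emb AA n).toMonoidHom (ρ p.1)
  map_one' := by simp
  map_mul' p r := by
    ext1
    simp only [Prod.fst_mul, Prod.snd_mul, map_mul, Units.val_mul, Units.coe_map]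
    have h := scalar_emb_comm (r.2 : AA) ((ρ p.1 : (Matrix n n B)ˣ) : Matrix n n B)
    simp only [RingHom.toMonoidHom_eq_coe, MonoidHom.coe_coe, mul_assoc] at h ⊢
    rw [← mul_assoc (Matrix.scalar n (r.2 : AA)) (emb AA n _), ← mul_assoc (emb AA n _)
      (Matrix.scalar n (r.2 : AA)), h]

theorem wHom_apply (ρ : Hb →* (Matrix n n B)ˣ) (h : Hb) (ψ : AAˣ) :
    ((wHom (AA := AA) ρ (h, ψ) : (Matrix n n AA)ˣ) : Matrix n n AA) =
      Matrix.scalar n (ψ : AA) * emb AA n ((ρ h : (Matrix n n B)ˣ) : Matrix n n B) := rfl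

theorem wHom_inv_apply (ρ : Hb →* (Matrix n n B)ˣ) (h : Hb) (ψ : AAˣ) :
    (((wHom (AA := AA) ρ (h, ψ))⁻¹ : (Matrix n n AA)ˣ) : Matrix n n AA) =
      Matrix.scalar n ((ψ⁻¹ : AAˣ) : AA) *
        emb AA n (((ρ h)⁻¹ : (Matrix n n B)ˣ) : Matrix n n B) := by
  rw [← map_inv, Prod.inv_mk, wHom_apply, map_inv]

/-- conjugation with `ψ ρ(h)`. -/
theorem wHom_conj_mem {k : ℕ} (P : Pk B AA Hb k) (ρ : Hb →* (Matrix n n B)ˣ) {h : Hb} {ψ : AAˣ}
    (hn : (h, ψ) ∈ P.N0) {j : ℕ} (hj : 1 ≤ j) {X : Matrix n n AA} (hX : X ∈ matD n (P.D j)) :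
    ((wHom (AA := AA) ρ (h, ψ) : (Matrix n n AA)ˣ) : Matrix n n AA) * X *
      (((wHom (AA := AA) ρ (h, ψ))⁻¹ : (Matrix n n AA)ˣ) : Matrix n n AA) ∈ matD n (P.D j) := by
  rw [wHom_apply, wHom_inv_apply, scalar_emb_comm ((ψ⁻¹ : AAˣ) : AA), scalar_emb_comm (ψ : AA)]
  have h1 : Matrix.scalar n (ψ : AA) * X * Matrix.scalar n ((ψ⁻¹ : AAˣ) : AA) ∈
      matD n (P.D j) := by
    intro a b
    rw [mul_scalar_apply, scalar_mul_apply]
    exact P.conj hn hj (hX a b)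
  have h2 : emb AA n ((ρ h : (Matrix n n B)ˣ) : Matrix n n B) * Matrix.scalar n (ψ : AA) * X *
      (emb AA n (((ρ h)⁻¹ : (Matrix n n B)ˣ) : Matrix n n B) *
        Matrix.scalar n ((ψ⁻¹ : AAˣ) : AA)) =
      emb AA n ((ρ h : (Matrix n n B)ˣ) : Matrix n n B) *
        (Matrix.scalar n (ψ : AA) * X * Matrix.scalar n ((ψ⁻¹ : AAˣ) : AA)) *
        emb AA n (((ρ h)⁻¹ : (Matrix n n B)ˣ) : Matrix n n B) := by
    rw [← scalar_emb_comm ((ψ⁻¹ : AAˣ) : AA)]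
    noncomm_ring
  rw [h2]
  exact mul_emb_mem _ (emb_mul_mem _ h1)

end Mat

namespace Pk

variable {B : Type*} [CommRing B] {AA : Type*} [Ring AA] [Algebra B AA]
  {Hb : Type*} [Group Hb] {k : ℕ} (P : Pk B AA Hb k)
  {n : Type*} [Fintype n] [DecidableEq n] {m : Type*} [Fintype m] [DecidableEq m]

/-- The twist of a package by a matrix representation. -/
def twist (ρ : Hb →* (Matrix n n B)ˣ) : Pk B (Matrix n n AA) Hb k where
  toFl := P.toFl.mat n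
  N0 :=
    { carrier := {p | ∃ ψ : AAˣ, (p.1, ψ) ∈ P.N0 ∧
        (wHom ρ (p.1, ψ))⁻¹ * p.2 ∈ (P.toFl.mat n).onePlus 1 le_rfl}
      one_mem' := ⟨1, P.N0.one_mem, by
        have e : wHom ρ ((1 : Hb), (1 : AAˣ)) = 1 := map_one (wHom (AA := AA) ρ)
        change (wHom ρ ((1 : Hb), (1 : AAˣ)))⁻¹ * 1 ∈ _
        rw [e, inv_one, one_mul]
        exact Subgroup.one_mem _⟩
      mul_mem' := by
        rintro ⟨g, X⟩ ⟨h, Y⟩ ⟨ψ, hψ, hX⟩ ⟨φ, hφ, hY⟩
        refine ⟨ψ * φ, P.N0.mul_mem hψ hφ, ?_⟩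
        have e : wHom (AA := AA) ρ (g * h, ψ * φ) = wHom ρ (g, ψ) * wHom ρ (h, φ) :=
          map_mul (wHom (AA := AA) ρ) (g, ψ) (h, φ)
        change (wHom ρ (g * h, ψ * φ))⁻¹ * (X * Y) ∈ _
        rw [e]
        have h3 : (wHom ρ (g, ψ) * wHom ρ (h, φ))⁻¹ * (X * Y) =
            ((wHom ρ (h, φ))⁻¹ * ((wHom ρ (g, ψ))⁻¹ * X) * (wHom ρ (h, φ))⁻¹⁻¹) *
              ((wHom ρ (h, φ))⁻¹ * Y) := by group
        rw [h3]
        refine Subgroup.mul_mem _ ?_ hY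
        rw [Fl.mem_onePlus] at hX ⊢
        have hφ' := P.N0.inv_mem hφ
        have h4 := wHom_conj_mem P ρ (h := h⁻¹) (ψ := φ⁻¹) hφ' le_rfl hX
        have e2 : wHom (AA := AA) ρ (h⁻¹, φ⁻¹) = (wHom ρ (h, φ))⁻¹ :=
          map_inv (wHom (AA := AA) ρ) (h, φ)
        rw [e2] at h4
        have h5 : (((wHom ρ (h, φ))⁻¹ * ((wHom ρ (g, ψ))⁻¹ * X) * (wHom ρ (h, φ))⁻¹⁻¹ :
            (Matrix n n AA)ˣ) : Matrix n n AA) - 1 =
            (((wHom ρ (h, φ))⁻¹ : (Matrix n n AA)ˣ) : Matrix n n AA) *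
              ((((wHom ρ (g, ψ))⁻¹ * X : (Matrix n n AA)ˣ) : Matrix n n AA) - 1) *
              (((wHom ρ (h, φ))⁻¹⁻¹ : (Matrix n n AA)ˣ) : Matrix n n AA) := by
          rw [mul_sub, sub_mul, mul_one, ← Units.val_mul, ← Units.val_mul, ← Units.val_mul,
            mul_inv_cancel, Units.val_one]
        rw [h5]
        exact h4
      inv_mem' := by
        rintro ⟨g, X⟩ ⟨ψ, hψ, hX⟩
        refine ⟨ψ⁻¹, P.N0.inv_mem hψ, ?_⟩
        have e2 : wHom (AA := AA) ρ (g⁻¹, ψ⁻¹) = (wHom ρ (g, ψ))⁻¹ :=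
          map_inv (wHom (AA := AA) ρ) (g, ψ)
        change (wHom ρ (g⁻¹, ψ⁻¹))⁻¹ * X⁻¹ ∈ _
        rw [e2]
        have h3 : (wHom ρ (g, ψ))⁻¹⁻¹ * X⁻¹ =
            wHom ρ (g, ψ) * ((wHom ρ (g, ψ))⁻¹ * X)⁻¹ * (wHom ρ (g, ψ))⁻¹ := by group
        rw [h3]
        have hX' := Subgroup.inv_mem _ hX
        rw [Fl.mem_onePlus] at hX' ⊢
        have h4 := wHom_conj_mem P ρ hψ le_rfl hX'
        have h5 : ((wHom ρ (g, ψ) * ((wHom ρ (g, ψ))⁻¹ * X)⁻¹ * (wHom ρ (g, ψ))⁻¹ :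
            (Matrix n n AA)ˣ) : Matrix n n AA) - 1 =
            ((wHom ρ (g, ψ) : (Matrix n n AA)ˣ) : Matrix n n AA) *
              (((((wHom ρ (g, ψ))⁻¹ * X)⁻¹ : (Matrix n n AA)ˣ) : Matrix n n AA) - 1) *
              (((wHom ρ (g, ψ))⁻¹ : (Matrix n n AA)ˣ) : Matrix n n AA) := by
          rw [mul_sub, sub_mul, mul_one, ← Units.val_mul, ← Units.val_mul, ← Units.val_mul,
            mul_inv_cancel, Units.val_one]
        rw [h5]
        exact h4 }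
  surj h := by
    obtain ⟨ψ, hψ⟩ := P.surj h
    exact ⟨wHom ρ (h, ψ), ψ, hψ, by simp⟩
  ker Ψ := by
    constructor
    · rintro ⟨ψ, hψ, hX⟩
      have h1 : (ψ : AA) - 1 ∈ P.D 1 := (P.ker ψ).1 hψ
      have h2 : wHom ρ ((1 : Hb), ψ) ∈ (P.toFl.mat n).onePlus 1 le_rfl := by
        rw [Fl.mem_onePlus, wHom_apply]
        have e : Matrix.scalar n (ψ : AA) *
            emb AA n ((ρ 1 : (Matrix n n B)ˣ) : Matrix n n B) - 1 =
            Matrix.scalar n ((ψ : AA) - 1) := by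
          rw [map_one, Units.val_one, map_one, mul_one, map_sub, map_one]
        rw [e]
        exact scalar_mem h1
      have h3 := Subgroup.mul_mem _ h2 hX
      rw [mul_inv_cancel_left] at h3
      exact h3
    · intro hΨ
      refine ⟨1, P.N0.one_mem, ?_⟩
      have e : wHom ρ ((1 : Hb), (1 : AAˣ)) = 1 := map_one (wHom (AA := AA) ρ)
      change (wHom ρ ((1 : Hb), (1 : AAˣ)))⁻¹ * Ψ ∈ _
      rw [e, inv_one, one_mul]
      exact hΨ
  conj := by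
    rintro h Ψ ⟨ψ, hψ, hX⟩ j hj X hXj
    have h1 := (P.toFl.mat n).conj_mem hX hj hXj
    have h2 := wHom_conj_mem P ρ hψ hj h1
    have e : (Ψ : Matrix n n AA) * X * ((Ψ⁻¹ : (Matrix n n AA)ˣ) : Matrix n n AA) =
        ((wHom ρ (h, ψ) : (Matrix n n AA)ˣ) : Matrix n n AA) *
          (((((wHom ρ (h, ψ))⁻¹ * Ψ : (Matrix n n AA)ˣ)) : Matrix n n AA) * X *
            ((((wHom ρ (h, ψ))⁻¹ * Ψ)⁻¹ : (Matrix n n AA)ˣ) : Matrix n n AA)) *
          (((wHom ρ (h, ψ))⁻¹ : (Matrix n n AA)ˣ) : Matrix n n AA) := by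
      have e1 : ((wHom ρ (h, ψ) : (Matrix n n AA)ˣ) : Matrix n n AA) *
          ((((wHom ρ (h, ψ))⁻¹ * Ψ : (Matrix n n AA)ˣ)) : Matrix n n AA) = Ψ := by
        rw [← Units.val_mul]; simp
      have e2 : ((((wHom ρ (h, ψ))⁻¹ * Ψ)⁻¹ : (Matrix n n AA)ˣ) : Matrix n n AA) *
          (((wHom ρ (h, ψ))⁻¹ : (Matrix n n AA)ˣ) : Matrix n n AA) =
          ((Ψ⁻¹ : (Matrix n n AA)ˣ) : Matrix n n AA) := by
        rw [← Units.val_mul]; simp
      calc _ = (((wHom ρ (h, ψ) : (Matrix n n AA)ˣ) : Matrix n n AA) *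
          ((((wHom ρ (h, ψ))⁻¹ * Ψ : (Matrix n n AA)ˣ)) : Matrix n n AA)) * X *
          (((((wHom ρ (h, ψ))⁻¹ * Ψ)⁻¹ : (Matrix n n AA)ˣ) : Matrix n n AA) *
          (((wHom ρ (h, ψ))⁻¹ : (Matrix n n AA)ˣ) : Matrix n n AA)) := by rw [e1, e2]
        _ = _ := by noncomm_ring
    rw [e]
    exact h2

end Pk

/-! ## Kronecker products with a matrix over `B` -/

section Kron

variable {B : Type*} [CommRing B] {AA : Type*} [Ring AA] [Algebra B AA]
  {n : Type*} [Fintype n] [DecidableEq n] {m : Type*} [Fintype m] [DecidableEq m]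

/-- `X ⊗ R`. -/
def kr (X : Matrix n n AA) (R : Matrix m m B) : Matrix (n × m) (n × m) AA :=
  fun i j => R i.2 j.2 • X i.1 j.1

omit [Fintype n] [DecidableEq n] [Fintype m] [DecidableEq m] in
theorem kr_apply (X : Matrix n n AA) (R : Matrix m m B) (i j : n × m) :
    kr X R i j = R i.2 j.2 • X i.1 j.1 := rfl

omit [DecidableEq n] [DecidableEq m] in
theorem kr_mul (X Y : Matrix n n AA) (R S : Matrix m m B) :
    kr X R * kr Y S = kr (X * Y) (R * S) := by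
  ext i j
  rw [Matrix.mul_apply, kr_apply, Matrix.mul_apply, Matrix.mul_apply, Fintype.sum_prod_type,
    Finset.sum_smul_sum]
  rw [Finset.sum_comm]
  refine Finset.sum_congr rfl fun c _ => Finset.sum_congr rfl fun d _ => ?_
  rw [kr_apply, kr_apply, smul_mul_smul_comm]

omit [Fintype n] [Fintype m] in
theorem kr_one : kr (1 : Matrix n n AA) (1 : Matrix m m B) = 1 := by
  ext i j
  rw [kr_apply, Matrix.one_apply, Matrix.one_apply, Matrix.one_apply]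
  by_cases h1 : i.1 = j.1
  · by_cases h2 : i.2 = j.2
    · simp [h1, h2, Prod.ext_iff]
    · simp [h1, h2, Prod.ext_iff]
  · simp [h1, Prod.ext_iff]

omit [Fintype n] [DecidableEq n] [Fintype m] [DecidableEq m] in
theorem kr_sub (X Y : Matrix n n AA) (R : Matrix m m B) : kr (X - Y) R = kr X R - kr Y R := by
  ext i j; simp [kr_apply, smul_sub]

omit [Fintype n] [DecidableEq n] [Fintype m] [DecidableEq m] in
theorem kr_add (X Y : Matrix n n AA) (R : Matrix m m B) : kr (X + Y) R = kr X R + kr Y R := by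
  ext i j; simp [kr_apply, smul_add]

omit [Fintype n] [DecidableEq n] [Fintype m] [DecidableEq m] in
theorem kr_mem {S : Submodule B AA} {X : Matrix n n AA} (hX : X ∈ matD n S) (R : Matrix m m B) :
    kr X R ∈ matD (n × m) S := fun _ _ => S.smul_mem _ (hX _ _)

/-- Kronecker product of units. -/
def krU (AA : Type*) [Ring AA] [Algebra B AA] :
    (Matrix n n AA)ˣ × (Matrix m m B)ˣ →* (Matrix (n × m) (n × m) AA)ˣ where
  toFun p := ⟨kr (p.1 : Matrix n n AA) (p.2 : Matrix m m B),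
    kr ((p.1⁻¹ : (Matrix n n AA)ˣ) : Matrix n n AA) ((p.2⁻¹ : (Matrix m m B)ˣ) : Matrix m m B),
    by rw [kr_mul, Units.mul_inv, Units.mul_inv, kr_one],
    by rw [kr_mul, Units.inv_mul, Units.inv_mul, kr_one]⟩
  map_one' := by ext1; exact kr_one
  map_mul' p r := by ext1; exact (kr_mul _ _ _ _).symm

theorem krU_val (p : (Matrix n n AA)ˣ × (Matrix m m B)ˣ) :
    ((krU AA p : (Matrix (n × m) (n × m) AA)ˣ) : Matrix (n × m) (n × m) AA) =
      kr (p.1 : Matrix n n AA) (p.2 : Matrix m m B) := rfl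

variable {Hb : Type*} [Group Hb]

/-- Kronecker product of representations. -/
def krRep (ρ : Hb →* (Matrix n n B)ˣ) (σ : Hb →* (Matrix m m B)ˣ) :
    Hb →* (Matrix (n × m) (n × m) B)ˣ :=
  (krU (B := B) B).comp (ρ.prod σ)

theorem krRep_apply (ρ : Hb →* (Matrix n n B)ˣ) (σ : Hb →* (Matrix m m B)ˣ) (h : Hb)
    (i j : n × m) : ((krRep ρ σ h : (Matrix (n × m) (n × m) B)ˣ) : Matrix (n × m) (n × m) B) i j =
      ((σ h : (Matrix m m B)ˣ) : Matrix m m B) i.2 j.2 *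
        ((ρ h : (Matrix n n B)ˣ) : Matrix n n B) i.1 j.1 := rfl

theorem wHom_krRep (ρ : Hb →* (Matrix n n B)ˣ) (σ : Hb →* (Matrix m m B)ˣ) (h : Hb) (ψ : AAˣ) :
    wHom (AA := AA) (krRep ρ σ) (h, ψ) = krU AA (wHom ρ (h, ψ), σ h) := by
  ext i j
  rw [wHom_apply, scalar_mul_apply, emb_apply, krRep_apply, krU_val, kr_apply, wHom_apply,
    scalar_mul_apply, emb_apply, map_mul, Algebra.smul_def, ← mul_assoc, ← mul_assoc,
    Algebra.commutes]

end Kron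

namespace Pk

variable {B : Type*} [CommRing B] {AA : Type*} [Ring AA] [Algebra B AA]
  {Hb : Type*} [Group Hb] {k : ℕ} (P : Pk B AA Hb k)
  {n : Type*} [Fintype n] [DecidableEq n] {m : Type*} [Fintype m] [DecidableEq m]

theorem mem_twist (ρ : Hb →* (Matrix n n B)ˣ) {h : Hb} {Ψ : (Matrix n n AA)ˣ} :
    (h, Ψ) ∈ (P.twist ρ).N0 ↔ ∃ ψ : AAˣ, (h, ψ) ∈ P.N0 ∧
      (wHom ρ (h, ψ))⁻¹ * Ψ ∈ (P.toFl.mat n).onePlus 1 le_rfl := Iff.rfl

theorem wHom_mem_twist (ρ : Hb →* (Matrix n n B)ˣ) {h : Hb} {ψ : AAˣ} (hn : (h, ψ) ∈ P.N0) :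
    (h, wHom ρ (h, ψ)) ∈ (P.twist ρ).N0 := ⟨ψ, hn, by simp⟩

/-- `X ↦ X ⊗ 1` and `1 + D j`. -/
theorem krU_one_mem {j : ℕ} {hj : 1 ≤ j} {u : (Matrix n n AA)ˣ}
    (hu : u ∈ (P.toFl.mat n).onePlus j hj) :
    krU (m := m) AA (u, (1 : (Matrix m m B)ˣ)) ∈ (P.toFl.mat (n × m)).onePlus j hj := by
  rw [Fl.mem_onePlus] at hu ⊢
  rw [krU_val]
  have e : kr (u : Matrix n n AA) ((1 : (Matrix m m B)ˣ) : Matrix m m B) - 1 =
      kr ((u : Matrix n n AA) - 1) ((1 : (Matrix m m B)ˣ) : Matrix m m B) := by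
    rw [kr_sub, Units.val_one, kr_one]
  change kr (u : Matrix n n AA) ((1 : (Matrix m m B)ˣ) : Matrix m m B) - 1 ∈ _
  rw [e]
  exact kr_mem hu _

/-- `τ : (h, Ψ) ↦ (h, Ψ ⊗ σ(h))`. -/
theorem τ_mem (ρ : Hb →* (Matrix n n B)ˣ) (σ : Hb →* (Matrix m m B)ˣ) {h : Hb}
    {Ψ : (Matrix n n AA)ˣ} (hn : (h, Ψ) ∈ (P.twist ρ).N0) :
    (h, krU AA (Ψ, σ h)) ∈ (P.twist (krRep ρ σ)).N0 := by
  obtain ⟨ψ, hψ, hX⟩ := hn
  refine ⟨ψ, hψ, ?_⟩
  change (wHom (krRep ρ σ) (h, ψ))⁻¹ * krU AA (Ψ, σ h) ∈ _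
  have e : (wHom (krRep ρ σ) (h, ψ))⁻¹ * krU AA (Ψ, σ h) =
      krU (m := m) AA ((wHom ρ (h, ψ))⁻¹ * Ψ, (1 : (Matrix m m B)ˣ)) := by
    rw [wHom_krRep, ← map_inv, ← map_mul, Prod.inv_mk, Prod.mk_mul_mk, inv_mul_cancel]
  rw [e]
  exact P.krU_one_mem hX

/-- `τ` as a homomorphism. -/
def τ (ρ : Hb →* (Matrix n n B)ˣ) (σ : Hb →* (Matrix m m B)ˣ) :
    (P.twist ρ).N0 →* (P.twist (krRep ρ σ)).N0 where
  toFun x := ⟨(x.1.1, krU AA (x.1.2, σ x.1.1)), P.τ_mem ρ σ x.2⟩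
  map_one' := by
    ext1
    change ((1 : Hb), krU AA ((1 : (Matrix n n AA)ˣ), σ 1)) = 1
    rw [map_one]
    exact Prod.ext rfl (map_one (krU AA))
  map_mul' x y := by
    ext1
    change (x.1.1 * y.1.1, krU AA (x.1.2 * y.1.2, σ (x.1.1 * y.1.1))) = _
    rw [map_mul]
    exact Prod.ext rfl (map_mul (krU AA) (x.1.2, σ x.1.1) (y.1.2, σ y.1.1))

/-- `X ↦ X ⊗ 1` on `D j`. -/
def krD (m : Type*) [Fintype m] [DecidableEq m] (j : ℕ) :
    (P.toFl.mat n).D j →ₗ[B] (P.toFl.mat (n × m)).D j where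
  toFun x := ⟨kr (x : Matrix n n AA) (1 : Matrix m m B), kr_mem x.2 _⟩
  map_add' x y := by ext1; exact kr_add _ _ _
  map_smul' b x := by
    ext i j
    change (1 : Matrix m m B) i.2 j.2 • (b • (x : Matrix n n AA) i.1 j.1) =
      b • ((1 : Matrix m m B) i.2 j.2 • (x : Matrix n n AA) i.1 j.1)
    rw [smul_comm]

/-- `θ : gr j (Mat n) → gr j (Mat (n × m))`, `x ↦ x ⊗ 1`. -/
def θ (m : Type*) [Fintype m] [DecidableEq m] (j : ℕ) :
    (P.toFl.mat n).gr j →ₗ[B] (P.toFl.mat (n × m)).gr j :=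
  Submodule.mapQ _ _ (P.krD m j) (by
    intro x hx
    exact kr_mem (S := P.D (j + 1)) hx _)

theorem θ_cl (j : ℕ) (x : (P.toFl.mat n).D j) :
    P.θ m j ((P.toFl.mat n).cl j x) = (P.toFl.mat (n × m)).cl j (P.krD m j x) := rfl

theorem q_τ {j : ℕ} (hj : 1 ≤ j) (u : (P.toFl.mat n).onePlus j hj) :
    Multiplicative.toAdd ((P.toFl.mat (n × m)).q j hj
      ⟨krU (m := m) AA ((u : (Matrix n n AA)ˣ), (1 : (Matrix m m B)ˣ)), P.krU_one_mem u.2⟩) =
      P.θ m j (Multiplicative.toAdd ((P.toFl.mat n).q j hj u)) := by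
  rw [Fl.q_apply, Fl.q_apply, θ_cl]
  congr 1
  ext1
  change kr ((u : (Matrix n n AA)ˣ) : Matrix n n AA) ((1 : (Matrix m m B)ˣ) : Matrix m m B) - 1 =
      kr (((u : (Matrix n n AA)ˣ) : Matrix n n AA) - 1) (1 : Matrix m m B)
  rw [kr_sub, Units.val_one, kr_one]

/-- The class of a matrix in `gr j (Mat n)` as a matrix of classes. -/
def grMat (n : Type*) [Fintype n] [DecidableEq n] (j : ℕ) :
    (P.toFl.mat n).gr j →ₗ[B] Matrix n n (P.gr j) :=
  Submodule.liftQ _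
    { toFun := fun x a b => P.cl j ⟨(x : Matrix n n AA) a b, x.2 a b⟩
      map_add' := fun x y => by
        ext a b
        change P.cl j _ = P.cl j _ + P.cl j _
        rw [← map_add]; rfl
      map_smul' := fun c x => by
        ext a b
        change P.cl j _ = c • P.cl j _
        rw [← map_smul]; rfl } (by
    intro x hx
    rw [LinearMap.mem_ker]
    ext a b
    exact (P.cl_eq_zero _).2 (hx a b))

theorem grMat_cl (j : ℕ) (x : (P.toFl.mat n).D j) (a b : n) :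
    P.grMat n j ((P.toFl.mat n).cl j x) a b = P.cl j ⟨(x : Matrix n n AA) a b, x.2 a b⟩ := rfl

theorem grMat_bijective (j : ℕ) : Function.Bijective (P.grMat n j) := by
  constructor
  · rw [← LinearMap.ker_eq_bot, LinearMap.ker_eq_bot']
    intro x hx
    obtain ⟨x, rfl⟩ := (P.toFl.mat n).cl_surjective j x
    rw [Fl.cl_eq_zero]
    intro a b
    have := congrFun (congrFun hx a) b
    rw [grMat_cl] at this
    exact (P.cl_eq_zero _).1 this
  · intro y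
    choose z hz using fun a b => P.cl_surjective j (y a b)
    refine ⟨(P.toFl.mat n).cl j ⟨fun a b => (z a b : AA), fun a b => (z a b).2⟩, ?_⟩
    ext a b
    rw [grMat_cl]
    exact hz a b

/-- The graded pieces of the twist. -/
noncomputable def grMatEquiv (n : Type*) [Fintype n] [DecidableEq n] (j : ℕ) :
    (P.toFl.mat n).gr j ≃ₗ[B] Matrix n n (P.gr j) :=
  LinearEquiv.ofBijective (P.grMat n j) (P.grMat_bijective j)

/-- The action on the graded pieces of the twist: `ρ(h) (h . c) ρ(h)⁻¹`. -/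
theorem grMat_act (ρ : Hb →* (Matrix n n B)ˣ) {j : ℕ} (hj : 1 ≤ j) (h : Hb)
    (x : (P.toFl.mat n).gr j) (a b : n) :
    P.grMat n j ((P.twist ρ).act j hj h x) a b =
      ∑ c, ∑ d, (((ρ h : (Matrix n n B)ˣ) : Matrix n n B) a c *
        (((ρ h)⁻¹ : (Matrix n n B)ˣ) : Matrix n n B) d b) •
          P.act j hj h (P.grMat n j x c d) := by
  obtain ⟨x, rfl⟩ := (P.toFl.mat n).cl_surjective j x
  obtain ⟨ψ, hψ⟩ := P.surj h
  have h1 := (P.twist ρ).act_cl (P.wHom_mem_twist ρ hψ) hj x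
  have h2 : (P.twist ρ).act j hj h ((P.toFl.mat n).cl j x) = _ := h1
  rw [h2]
  have h3 : ∀ c d, P.act j hj h (P.grMat n j ((P.toFl.mat n).cl j x) c d) =
      P.cl j ⟨(ψ : AA) * (x : Matrix n n AA) c d * ((ψ⁻¹ : AAˣ) : AA),
        P.conj hψ hj (x.2 c d)⟩ := fun c d => by
    rw [grMat_cl, P.act_cl hψ hj]
  simp only [h3]
  have h4 : ∀ c d, (((ρ h : (Matrix n n B)ˣ) : Matrix n n B) a c *
        (((ρ h)⁻¹ : (Matrix n n B)ˣ) : Matrix n n B) d b) •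
        P.cl j ⟨(ψ : AA) * (x : Matrix n n AA) c d * ((ψ⁻¹ : AAˣ) : AA),
          P.conj hψ hj (x.2 c d)⟩ =
      P.cl j ((((ρ h : (Matrix n n B)ˣ) : Matrix n n B) a c *
        (((ρ h)⁻¹ : (Matrix n n B)ˣ) : Matrix n n B) d b) •
        ⟨(ψ : AA) * (x : Matrix n n AA) c d * ((ψ⁻¹ : AAˣ) : AA),
          P.conj hψ hj (x.2 c d)⟩) := fun c d => (map_smul _ _ _).symm
  simp only [h4, ← map_sum]
  refine (P.cl_eq _ _).2 ?_
  have h5 : ((⟨_, (P.twist ρ).conj (P.wHom_mem_twist ρ hψ) hj x.2⟩ :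
      (P.toFl.mat n).D j) : Matrix n n AA) a b =
      ∑ c, ∑ d, (((ρ h : (Matrix n n B)ˣ) : Matrix n n B) a c *
        (((ρ h)⁻¹ : (Matrix n n B)ˣ) : Matrix n n B) d b) •
        ((ψ : AA) * (x : Matrix n n AA) c d * ((ψ⁻¹ : AAˣ) : AA)) := by
    change (((wHom (AA := AA) ρ (h, ψ) : (Matrix n n AA)ˣ) : Matrix n n AA) * x *
      (((wHom (AA := AA) ρ (h, ψ))⁻¹ : (Matrix n n AA)ˣ) : Matrix n n AA)) a b = _
    rw [wHom_apply, wHom_inv_apply, scalar_emb_comm (ψ : AA)]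
    have h6 : emb AA n ((ρ h : (Matrix n n B)ˣ) : Matrix n n B) * Matrix.scalar n (ψ : AA) * x *
        (Matrix.scalar n ((ψ⁻¹ : AAˣ) : AA) *
          emb AA n (((ρ h)⁻¹ : (Matrix n n B)ˣ) : Matrix n n B)) =
        emb AA n ((ρ h : (Matrix n n B)ˣ) : Matrix n n B) *
        ((Matrix.scalar n (ψ : AA) * x * Matrix.scalar n ((ψ⁻¹ : AAˣ) : AA)) *
          emb AA n (((ρ h)⁻¹ : (Matrix n n B)ˣ) : Matrix n n B)) := by noncomm_ring
    rw [h6, emb_mul_apply]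
    refine Finset.sum_congr rfl fun c _ => ?_
    rw [mul_emb_apply, Finset.smul_sum]
    refine Finset.sum_congr rfl fun d _ => ?_
    rw [smul_smul, mul_scalar_apply, scalar_mul_apply]
  have h7 : ((∑ c, ∑ d, ((((ρ h : (Matrix n n B)ˣ) : Matrix n n B) a c *
        (((ρ h)⁻¹ : (Matrix n n B)ˣ) : Matrix n n B) d b) •
        (⟨(ψ : AA) * (x : Matrix n n AA) c d * ((ψ⁻¹ : AAˣ) : AA),
          P.conj hψ hj (x.2 c d)⟩ : P.D j)) : P.D j) : AA) =
      ∑ c, ∑ d, (((ρ h : (Matrix n n B)ˣ) : Matrix n n B) a c *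
        (((ρ h)⁻¹ : (Matrix n n B)ˣ) : Matrix n n B) d b) •
        ((ψ : AA) * (x : Matrix n n AA) c d * ((ψ⁻¹ : AAˣ) : AA)) := by
    simp only [AddSubmonoidClass.coe_finsetSum, Submodule.coe_smul]
  change ((⟨_, (P.twist ρ).conj (P.wHom_mem_twist ρ hψ) hj x.2⟩ :
      (P.toFl.mat n).D j) : Matrix n n AA) a b - _ ∈ P.D (j + 1)
  rw [h5, h7, sub_self]
  exact (P.D _).zero_mem

end Pk

/-! ## Functoriality -/

section Functoriality

variable {B : Type*} [CommRing B] {AA : Type*} [Ring AA] [Algebra B AA]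
  {B' : Type*} [CommRing B'] {AA' : Type*} [Ring AA'] [Algebra B' AA']
  {Hb : Type*} [Group Hb] {Hb' : Type*} [Group Hb'] {k : ℕ}
  {n : Type*} [Fintype n] [DecidableEq n] {m : Type*} [Fintype m] [DecidableEq m]

/-- A map of packages over `f : B → B'`. -/
structure Pk.IsMap (P : Pk B AA Hb k) (P' : Pk B' AA' Hb' k) (f : B →+* B') (F : AA →+* AA')
    (g : Hb →* Hb') : Prop where
  alg : ∀ b : B, F (algebraMap B AA b) = algebraMap B' AA' (f b)
  D : ∀ {j : ℕ} {x : AA}, x ∈ P.D j → F x ∈ P'.D j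
  N0 : ∀ {h : Hb} {ψ : AAˣ}, (h, ψ) ∈ P.N0 → (g h, Units.map F.toMonoidHom ψ) ∈ P'.N0

namespace Pk.IsMap

variable {P : Pk B AA Hb k} {P' : Pk B' AA' Hb' k} {f : B →+* B'} {F : AA →+* AA'}
  {g : Hb →* Hb'} (hm : P.IsMap P' f F g)

include hm in
theorem smul (b : B) (x : AA) : F (b • x) = f b • F x := by
  rw [Algebra.smul_def, map_mul, hm.alg, Algebra.smul_def]

include hm in
theorem onePlus {j : ℕ} {hj : 1 ≤ j} {u : AAˣ} (hu : u ∈ P.onePlus j hj) :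
    Units.map F.toMonoidHom u ∈ P'.onePlus j hj := by
  rw [Fl.mem_onePlus] at hu ⊢
  have := hm.D hu
  rw [map_sub, map_one] at this
  exact this

/-- The map on the graded pieces. -/
def grMap (j : ℕ) : P.gr j →+ P'.gr j :=
  QuotientAddGroup.map _ _
    ((F.toAddMonoidHom.comp (P.D j).subtype.toAddMonoidHom).codRestrict
      (P'.D j).toAddSubgroup (fun x => hm.D x.2) : P.D j →+ P'.D j)
    (by
      intro x hx
      exact hm.D (j := j + 1) hx)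

theorem grMap_cl (j : ℕ) (x : P.D j) : hm.grMap j (P.cl j x) = P'.cl j ⟨F x, hm.D x.2⟩ := rfl

theorem grMap_smul (j : ℕ) (b : B) (x : P.gr j) : hm.grMap j (b • x) = f b • hm.grMap j x := by
  obtain ⟨x, rfl⟩ := P.cl_surjective j x
  rw [← map_smul, grMap_cl, grMap_cl, ← map_smul]
  congr 1; ext1
  exact hm.smul b x

theorem q_grMap {j : ℕ} {hj : 1 ≤ j} (u : P.onePlus j hj) :
    Multiplicative.toAdd (P'.q j hj ⟨Units.map F.toMonoidHom u, hm.onePlus u.2⟩) =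
      hm.grMap j (Multiplicative.toAdd (P.q j hj u)) := by
  rw [Fl.q_apply, Fl.q_apply, grMap_cl]
  congr 1; ext1
  change F ((u : AAˣ) : AA) - 1 = F (((u : AAˣ) : AA) - 1)
  rw [map_sub, map_one]

theorem act_grMap {j : ℕ} (hj : 1 ≤ j) (h : Hb) (x : P.gr j) :
    hm.grMap j (P.act j hj h x) = P'.act j hj (g h) (hm.grMap j x) := by
  obtain ⟨x, rfl⟩ := P.cl_surjective j x
  obtain ⟨ψ, hψ⟩ := P.surj h
  rw [P.act_cl hψ hj, grMap_cl, grMap_cl, P'.act_cl (hm.N0 hψ) hj]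
  congr 1; ext1
  change F ((ψ : AA) * x * ((ψ⁻¹ : AAˣ) : AA)) = F ψ * F x * F ((ψ⁻¹ : AAˣ) : AA)
  rw [map_mul, map_mul]

omit [Fintype n] [DecidableEq n] in
theorem _root_.Groth.Agent.ResProp.EF.K661.map_mem_matD {S : Submodule B AA} {S' : Submodule B' AA'}
    {F : AA →+* AA'} (hS : ∀ x ∈ S, F x ∈ S') {X : Matrix n n AA} (hX : X ∈ matD n S) :
    X.map F ∈ matD n S' := fun a b => hS _ (hX a b)

include hm in
theorem map_wHom {ρ : Hb →* (Matrix n n B)ˣ} {ρ' : Hb' →* (Matrix n n B')ˣ}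
    (hρ : ∀ h, ρ' (g h) = Units.map (f.mapMatrix (m := n)).toMonoidHom (ρ h)) (h : Hb) (ψ : AAˣ) :
    Units.map (F.mapMatrix (m := n)).toMonoidHom (wHom ρ (h, ψ)) =
      wHom ρ' (g h, Units.map F.toMonoidHom ψ) := by
  ext a b
  rw [wHom_apply, scalar_mul_apply, emb_apply, hρ]
  change F ((wHom ρ (h, ψ) : (Matrix n n AA)ˣ) a b) = F ψ * algebraMap B' AA' (f _)
  rw [wHom_apply, scalar_mul_apply, emb_apply, map_mul, hm.alg]

include hm in
/-- The twists are functorial. -/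
theorem twist {ρ : Hb →* (Matrix n n B)ˣ} {ρ' : Hb' →* (Matrix n n B')ˣ}
    (hρ : ∀ h, ρ' (g h) = Units.map (f.mapMatrix (m := n)).toMonoidHom (ρ h)) :
    (P.twist ρ).IsMap (P'.twist ρ') f (F.mapMatrix (m := n)) g where
  alg b := by
    ext a c
    change F (algebraMap B (Matrix n n AA) b a c) = algebraMap B' (Matrix n n AA') (f b) a c
    rw [Matrix.algebraMap_matrix_apply, Matrix.algebraMap_matrix_apply]
    split_ifs
    · exact hm.alg b
    · exact map_zero F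
  D hx := map_mem_matD (fun _ h => hm.D h) hx
  N0 := by
    rintro h Ψ ⟨ψ, hψ, hX⟩
    refine ⟨Units.map F.toMonoidHom ψ, hm.N0 hψ, ?_⟩
    change (wHom ρ' (g h, Units.map F.toMonoidHom ψ))⁻¹ *
      Units.map (F.mapMatrix (m := n)).toMonoidHom Ψ ∈ _
    rw [← hm.map_wHom hρ, ← map_inv, ← map_mul]
    rw [Fl.mem_onePlus] at hX ⊢
    have h1 := map_mem_matD (F := F) (S' := P'.D 1) (fun _ h => hm.D h) hX
    have h2 : (((wHom ρ (h, ψ))⁻¹ * Ψ : (Matrix n n AA)ˣ) - 1 : Matrix n n AA).map F =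
        (F.mapMatrix (m := n)) ((wHom ρ (h, ψ))⁻¹ * Ψ : (Matrix n n AA)ˣ) - 1 := by
      change F.mapMatrix _ = _
      rw [map_sub, map_one]
    rw [h2] at h1
    exact h1

omit [Fintype n] [DecidableEq n] [Fintype m] [DecidableEq m] in
theorem map_kr {f : B →+* B'} {F : AA →+* AA'} (h : ∀ b x, F (b • x) = f b • F x)
    (X : Matrix n n AA) (R : Matrix m m B) : (kr X R).map F = kr (X.map F) (R.map f) := by
  ext i j
  exact h _ _

theorem grMat_grMap {ρ : Hb →* (Matrix n n B)ˣ} {ρ' : Hb' →* (Matrix n n B')ˣ}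
    (hρ : ∀ h, ρ' (g h) = Units.map (f.mapMatrix (m := n)).toMonoidHom (ρ h)) (j : ℕ)
    (x : (P.toFl.mat n).gr j) (a b : n) :
    P'.grMat n j ((hm.twist hρ).grMap j x) a b = hm.grMap j (P.grMat n j x a b) := by
  obtain ⟨x, rfl⟩ := (P.toFl.mat n).cl_surjective j x
  rfl

end Pk.IsMap

end Functoriality

end Groth.Agent.ResProp.EF.K661
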