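import Groth.Agent.ResProp.EF.K661.TowerD
import Groth.Agent.ResProp.EF.K649.GrMod

/-!
# helper661, helper649: the tower of an operator package (G5, node B2), final form
-/

set_option autoImplicit false

universe u

open TensorProduct Groth.Agent.ResProp.EF.Grp Groth.Agent.ResProp.EF.K104
  Groth.Agent.ResProp.EF.K649 Groth.Agent.ResProp.EF.K208

namespace Groth.Agent.ResProp.EF.K661

variable {k : Type u} [CommRing k] {H0 : Gp k} {n : ℕ} (P : OpPkg (pts H0) n)

/-- The module structures on the graded pieces (helper649's `gr`). -/
noncomputable def grDat : GrDat P where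
  co := grCo P
  act_eq j hj B _ _ _ g x := actM_gr P j hj B g x

/-- **The tower of an operator package.** -/
noncomputable def towerOf : Tower.{u, max 1 u} (pts H0) := tower (grDat P)

theorem towerOf_n : (towerOf P).n = n := rfl

theorem towerOf_N (T : MRep H0) : (towerOf P).N T = NF P (mr T) := rfl

theorem towerOf_Q (T : MRep H0) (j : ℕ) : (towerOf P).Q T j = matMod T (gr P j) := rfl

theorem towerOf_θ (T T' : MRep H0) (j : ℕ) : (towerOf P).θ T T' j = theta T T' (gr P j) := rfl

end Groth.Agent.ResProp.EF.K661
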