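import Groth.Agent.ResProp.EF.K661.TowerB
import Groth.Agent.ResProp.EF.K649.Pts

/-!
# helper661: the projections to the graded pieces and the tower (G5, node B2)
-/

set_option autoImplicit false

universe u

open TensorProduct Groth.Agent.ResProp.EF.Grp Groth.Agent.ResProp.EF.K104
  Groth.Agent.ResProp.EF.K649 Groth.Agent.ResProp.EF.K208 WithConv

namespace Groth.Agent.ResProp.EF.K661

variable {k : Type u} [CommRing k]

section Gen

variable {H : GFun k} {n : ℕ} (P : OpPkg H n)

section CE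

variable (B : Type u) [CommRing B] [Algebra k B] [Module.Flat k B]

/-- `gr j` over a flat algebra, as `gr j ⊗ B`. -/
noncomputable def cE (j : ℕ) : (pk P B).gr j ≃+ GQ P j ⊗[k] B :=
  (grE P B j).symm.toAddEquiv.trans (TensorProduct.comm k B (GQ P j)).toAddEquiv

theorem cE_grE (j : ℕ) (z : B ⊗[k] GQ P j) :
    cE P B j (grE P B j z) = TensorProduct.comm k B (GQ P j) z := by
  change TensorProduct.comm k B (GQ P j) ((grE P B j).symm (grE P B j z)) = _
  rw [LinearEquiv.symm_apply_apply]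

theorem cE_nat {B : Type u} [CommRing B] [Algebra k B] [Module.Flat k B] {C : Type u}
    [CommRing C] [Algebra k C] [Module.Flat k C] (f : B →ₐ[k] C) (j : ℕ) (y : (pk P B).gr j) :
    cE P C j ((pk_isMap P f).grMap j y) = f.toLinearMap.lTensor (GQ P j) (cE P B j y) := by
  obtain ⟨z, rfl⟩ := (grE P B j).surjective y
  rw [grE_nat, cE_grE, cE_grE]
  induction z using TensorProduct.induction_on with
  | zero => simp only [map_zero]
  | add x y hx hy => simp only [map_add, hx, hy]
  | tmul b d => rfl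

theorem cE_smul (j : ℕ) (b : B) (y : (pk P B).gr j) :
    cE P B j (b • y) = rmul (GQ P j) b (cE P B j y) := by
  obtain ⟨z, rfl⟩ := (grE P B j).surjective y
  rw [← map_smul, cE_grE, cE_grE]
  induction z using TensorProduct.induction_on with
  | zero => simp only [smul_zero, map_zero]
  | add x y hx hy => simp only [smul_add, map_add, hx, hy]
  | tmul c d =>
    rw [TensorProduct.smul_tmul', TensorProduct.comm_tmul, TensorProduct.comm_tmul, rmul_tmul,
      smul_eq_mul, mul_comm]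

end CE

variable {I : Type} [Fintype I] [DecidableEq I] (R : MR H I)
  {J : Type} [Fintype J] [DecidableEq J] (S : MR H J)

section Q

variable {B : Type u} [CommRing B] [Algebra k B] [Module.Flat k B]

/-- The matrix of an element of `NFil`. -/
def nu {j : ℕ} (hj : 1 ≤ j) (x : NFil P R j B) : ((pk P B).toFl.mat I).onePlus j hj :=
  ⟨x.1.1.2, ((mem_NFil_flat P R hj).1 x.2).2⟩

theorem nu_mul {j : ℕ} (hj : 1 ≤ j) (x y : NFil P R j B) :
    nu P R hj (x * y) = nu P R hj x * nu P R hj y := rfl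

/-- The projection `NFil j → Mat (gr j ⊗ B)`. -/
noncomputable def qF {j : ℕ} (hj : 1 ≤ j) (x : NFil P R j B) : Matrix I I (GQ P j ⊗[k] B) :=
  ((pk P B).grMat I j (Multiplicative.toAdd
    (((pk P B).toFl.mat I).q j hj (nu P R hj x)))).map (cE P B j)

theorem qF_apply {j : ℕ} (hj : 1 ≤ j) (x : NFil P R j B) (a b : I) :
    qF P R hj x a b = cE P B j ((pk P B).grMat I j (Multiplicative.toAdd
      (((pk P B).toFl.mat I).q j hj (nu P R hj x))) a b) := rfl

theorem qF_mul {j : ℕ} (hj : 1 ≤ j) (x y : NFil P R j B) :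
    qF P R hj (x * y) = qF P R hj x + qF P R hj y := by
  have h1 : Multiplicative.toAdd (((pk P B).toFl.mat I).q j hj (nu P R hj (x * y))) =
      Multiplicative.toAdd (((pk P B).toFl.mat I).q j hj (nu P R hj x)) +
        Multiplicative.toAdd (((pk P B).toFl.mat I).q j hj (nu P R hj y)) := by
    rw [nu_mul, map_mul, toAdd_mul]
  ext a b
  rw [Matrix.add_apply, qF_apply, qF_apply, qF_apply, h1, map_add, Matrix.add_apply]
  exact (cE P B j).map_add _ _

theorem exists_nu {j : ℕ} (hj : 1 ≤ j) (u : ((pk P B).toFl.mat I).onePlus j hj) :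
    ∃ x : NFil P R j B, nu P R hj x = u := by
  have h1 : ((1 : H.pt B), (u : (Matrix I I (P.AA B))ˣ)) ∈ NSub P R B := by
    rw [mem_NSub_flat]
    refine (((pk P B).twist (R.ρ B)).ker _).2 ?_
    exact ((opFl P B).mat I).anti hj u.2
  have h2 : (⟨(1, u), h1⟩ : (NF P R).pt B) ∈ NFil P R j B :=
    (mem_NFil_flat P R hj).2 ⟨rfl, u.2⟩
  exact ⟨⟨_, h2⟩, rfl⟩

theorem qF_surj {j : ℕ} (hj : 1 ≤ j) : Function.Surjective (qF (B := B) P R hj) := by
  intro X
  obtain ⟨Y, hY⟩ := ((pk P B).grMat_bijective (n := I) j).2 (X.map (cE P B j).symm)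
  obtain ⟨u, hu⟩ := ((pk P B).toFl.mat I).q_surjective j hj (Multiplicative.ofAdd Y)
  obtain ⟨x, hx⟩ := exists_nu P R hj u
  refine ⟨x, ?_⟩
  unfold qF
  rw [hx, hu, toAdd_ofAdd, hY]
  ext a b
  exact (cE P B j).apply_symm_apply _

theorem qF_ker {j : ℕ} (hj : 1 ≤ j) (x : NFil P R j B) (hx : qF P R hj x = 0) :
    (x : (NF P R).pt B) ∈ NFil P R (j + 1) B := by
  have h1 : (pk P B).grMat I j (Multiplicative.toAdd
      (((pk P B).toFl.mat I).q j hj (nu P R hj x))) = 0 := by
    ext a b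
    apply (cE P B j).injective
    have := congrFun (congrFun hx a) b
    rw [Matrix.zero_apply, map_zero]
    exact this
  have h2 : Multiplicative.toAdd (((pk P B).toFl.mat I).q j hj (nu P R hj x)) = 0 := by
    apply ((pk P B).grMat_bijective (n := I) j).1
    rw [h1, map_zero]
  have h3 : ((pk P B).toFl.mat I).q j hj (nu P R hj x) = 1 := h2
  rw [Fl.q_eq_one] at h3
  exact (mem_NFil_flat P R (Nat.le_add_left 1 j)).2 ⟨((mem_NFil_flat P R hj).1 x.2).1, h3⟩

theorem qF_nat {C : Type u} [CommRing C] [Algebra k C] [Module.Flat k C] (f : B →ₐ[k] C)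
    {j : ℕ} (hj : 1 ≤ j) (x : NFil P R j B) :
    qF P R hj ⟨(NF P R).map f x, NFil_map P R j f x x.2⟩ =
      (qF P R hj x).map (f.toLinearMap.lTensor (GQ P j)) := by
  ext a b
  change cE P C j ((pk P C).grMat I j (Multiplicative.toAdd
    (((pk P C).toFl.mat I).q j hj (nu P R hj ⟨(NF P R).map f x, NFil_map P R j f x x.2⟩))) a b) =
      f.toLinearMap.lTensor (GQ P j) (cE P B j ((pk P B).grMat I j (Multiplicative.toAdd
    (((pk P B).toFl.mat I).q j hj (nu P R hj x))) a b))
  rw [← cE_nat, ← Pk.IsMap.grMat_grMap (pk_isMap P f) (R.nat f) j]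
  have h1 := (twist_isMap P R f).q_grMap (hj := hj) (nu P R hj x)
  exact congrArg (fun t => cE P C j ((pk P C).grMat I j t a b)) h1

/-- conjugation on the graded pieces. -/
theorem qF_conj {j : ℕ} (hj : 1 ≤ j) (m : (NF P R).pt B) (x : NFil P R j B) (a b : I) :
    qF P R hj ⟨m * (x : (NF P R).pt B) * m⁻¹, NFil_conj P R j B m x x.2⟩ a b =
      ∑ c, ∑ d, rmul (GQ P j) (((R.ρ B m.1.1 : (Matrix I I B)ˣ) : Matrix I I B) a c *
        (((R.ρ B m.1.1)⁻¹ : (Matrix I I B)ˣ) : Matrix I I B) d b)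
        (TensorProduct.comm k B (GQ P j) (cj P B j hj m.1.1
          ((TensorProduct.comm k B (GQ P j)).symm (qF P R hj x c d)))) := by
  have h1 := ((pk P B).twist (R.ρ B)).q_conj ((mem_NSub_flat P R).1 m.2) hj (nu P R hj x)
    (((pk P B).twist (R.ρ B)).conj_onePlus ((mem_NSub_flat P R).1 m.2) hj (nu P R hj x).2)
  change cE P B j ((pk P B).grMat I j (Multiplicative.toAdd
    (((pk P B).toFl.mat I).q j hj (nu P R hj
      ⟨m * (x : (NF P R).pt B) * m⁻¹, NFil_conj P R j B m x x.2⟩))) a b) = _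
  have h2 : Multiplicative.toAdd (((pk P B).toFl.mat I).q j hj
      (nu P R hj
      ⟨m * (x : (NF P R).pt B) * m⁻¹, NFil_conj P R j B m x x.2⟩)) =
      ((pk P B).twist (R.ρ B)).act j hj m.1.1 (Multiplicative.toAdd
        (((pk P B).toFl.mat I).q j hj (nu P R hj x))) := h1
  rw [h2]
  refine (congrArg (cE P B j) ((pk P B).grMat_act (R.ρ B) hj m.1.1 (Multiplicative.toAdd
    (((pk P B).toFl.mat I).q j hj (nu P R hj x))) a b)).trans ?_
  rw [map_sum]
  refine Finset.sum_congr rfl fun c _ => ?_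
  rw [map_sum]
  refine Finset.sum_congr rfl fun d _ => ?_
  rw [cE_smul]
  congr 1
  obtain ⟨z, hz⟩ := (grE P B j).surjective ((pk P B).grMat I j (Multiplicative.toAdd
        (((pk P B).toFl.mat I).q j hj (nu P R hj x))) c d)
  have h3 : qF P R hj x c d = TensorProduct.comm k B (GQ P j) z := by
    change cE P B j _ = _
    rw [← hz, cE_grE]
  rw [h3, LinearEquiv.symm_apply_apply, ← hz, ← grE_cj, cE_grE]

end Q

/-! ## Twisting into an equal representation -/

theorem MR.ext' {R R' : MR H I}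
    (h : ∀ (B : Type u) [CommRing B] [Algebra k B] (g : H.pt B), R.ρ B g = R'.ρ B g) :
    R = R' := by
  cases R; cases R'
  congr
  funext B _ _
  exact MonoidHom.ext (h B)

variable {R S} {U : MR H (I × J)} (hU : U = R.mul S)

/-- `τ` with values in an equal representation. -/
def NFτ' : GHom (NF P R) (NF P U) where
  app B _ _ :=
    { toFun := fun x => ⟨(x.1.1, krU (P.AA B) (x.1.2, S.ρ B x.1.1)), by
        subst hU; exact ((NFτ P R S).app B x).2⟩
      map_one' := by subst hU; exact map_one ((NFτ P R S).app B)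
      map_mul' := by subst hU; exact map_mul ((NFτ P R S).app B) }
  nat := by subst hU; exact (NFτ P R S).nat

theorem NFτ'_π (B : Type u) [CommRing B] [Algebra k B] (x : (NF P R).pt B) :
    (NFπ P U).app B ((NFτ' P hU).app B x) = (NFπ P R).app B x := rfl

theorem NFτ'_Fil (j : ℕ) (B : Type u) [CommRing B] [Algebra k B] (x : (NF P R).pt B)
    (hx : x ∈ NFil P R j B) : (NFτ' P hU).app B x ∈ NFil P U j B := by
  subst hU; exact NFτ_Fil P R S j B x hx

theorem qF_τ {B : Type u} [CommRing B] [Algebra k B] [Module.Flat k B] {j : ℕ} (hj : 1 ≤ j)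
    (x : NFil P R j B) (a b : I × J) :
    qF P U hj ⟨(NFτ' P hU).app B x, NFτ'_Fil P hU j B x x.2⟩ a b =
      if a.2 = b.2 then qF P R hj x a.1 b.1 else 0 := by
  subst hU
  have h0 : S.ρ B x.1.1.1 = 1 := by
    rw [((mem_NFil_flat P R hj).1 x.2).1, map_one]
  have h1 : nu P (R.mul S) hj ⟨(NFτ' P (rfl : R.mul S = R.mul S)).app B x, NFτ'_Fil P (rfl : R.mul S = R.mul S) j B x x.2⟩ =
      ⟨krU (m := J) (P.AA B) ((nu P R hj x : (Matrix I I (P.AA B))ˣ), (1 : (Matrix J J B)ˣ)),
        (pk P B).krU_one_mem (nu P R hj x).2⟩ := by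
    apply Subtype.ext
    change krU (P.AA B) (x.1.1.2, S.ρ B x.1.1.1) = _
    rw [h0]; rfl
  have h2 := (pk P B).q_τ (m := J) hj (nu P R hj x)
  change cE P B j ((pk P B).grMat (I × J) j (Multiplicative.toAdd
    (((pk P B).toFl.mat (I × J)).q j hj (nu P (R.mul S) hj
      ⟨(NFτ' P (rfl : R.mul S = R.mul S)).app B x, NFτ'_Fil P (rfl : R.mul S = R.mul S) j B x x.2⟩))) a b) = _
  rw [h1, h2]
  obtain ⟨y, hy⟩ := ((pk P B).toFl.mat I).cl_surjective j (Multiplicative.toAdd
    (((pk P B).toFl.mat I).q j hj (nu P R hj x)))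
  have h3 : qF P R hj x a.1 b.1 = cE P B j ((pk P B).cl j ⟨(y : Matrix I I (P.AA B)) a.1 b.1,
      y.2 a.1 b.1⟩) := by
    change cE P B j ((pk P B).grMat I j (Multiplicative.toAdd
      (((pk P B).toFl.mat I).q j hj (nu P R hj x))) a.1 b.1) = _
    rw [← hy]; rfl
  rw [h3, ← hy, Pk.θ_cl, Pk.grMat_cl]
  have h4 : ((pk P B).krD J j y : Matrix (I × J) (I × J) (P.AA B)) a b =
      if a.2 = b.2 then (y : Matrix I I (P.AA B)) a.1 b.1 else 0 := by
    change (1 : Matrix J J B) a.2 b.2 • (y : Matrix I I (P.AA B)) a.1 b.1 = _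
    rw [Matrix.one_apply]
    split_ifs <;> simp
  by_cases hab : a.2 = b.2
  · rw [if_pos hab]
    rw [if_pos hab] at h4
    congr 3
  · rw [if_neg hab]
    rw [if_neg hab] at h4
    have h5 : (pk P B).cl j ⟨((pk P B).krD J j y : Matrix (I × J) (I × J) (P.AA B)) a b,
        ((pk P B).krD J j y).2 a b⟩ = 0 := by
      rw [Fl.cl_eq_zero]
      change ((pk P B).krD J j y : Matrix (I × J) (I × J) (P.AA B)) a b ∈ _
      rw [h4]
      exact Submodule.zero_mem _
    exact (congrArg _ h5).trans (map_zero _)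

end Gen

end Groth.Agent.ResProp.EF.K661
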